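import Groth.Agent.LqfRep.QC
import Groth.Agent.AlgSpLib.Glue
import Groth.Agent.AlgSpLib.Zar
import Groth.Agent.AlgSpLib.LocPMore

/-!
# Separated locally quasi-finite spaces over schemes are schemes
-/

universe u

open CategoryTheory CategoryTheory.Limits AlgebraicGeometry Opposite TensorProduct

set_option backward.isDefEq.respectTransparency false

namespace Groth.Agent.LqfRep

open _root_.AlgSp Groth.Agent.AlgSpLib

variable {S : Scheme.{u}}

lemma isSeparatedMor_of_mono {F G : Sp S} (f : F ⟶ G) [Mono f] : IsSeparatedMor f := by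
  show RepWith @IsClosedImmersion _
  exact repWith_of_isIso _

/-- a separated locally quasi-finite algebraic space over a scheme is a scheme -/
theorem exists_iso_yon_of_lqf_separated {X : Sp S} (hX : IsAlgSpace X) {T : Over S}
    (f : X ⟶ (yon S).obj T) (hqf : LocP (@LocallyQuasiFinite ⊓ @LocallyOfFiniteType) f) (hsep : IsSeparatedMor f) :
    ∃ W : Over S, Nonempty (X ≅ (yon S).obj W) := by
  let 𝒰 := T.left.affineCover
  let T' : 𝒰.I₀ → Over S := fun k => Over.mk (𝒰.f k ≫ T.hom)
  let e : ∀ k, T' k ⟶ T := fun k => Over.homMk (𝒰.f k) rfl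
  have he : ∀ k, RepWith @IsOpenImmersion ((yon S).map (e k)) := fun k =>
    (repWith_yon_iff _).2 (inferInstanceAs (IsOpenImmersion (𝒰.f k)))
  have hXk : ∀ k, IsAlgSpace (pullback f ((yon S).map (e k))) := fun k =>
    isAlgSpace_of_isPullback_space (IsAlgSpace.yon_obj _) hX (IsAlgSpace.yon_obj _) (IsPullback.of_hasPullback _ _)
  choose J Xi j hj hchart using fun k => exists_affine_open_subspaces (hXk k)
  have key : ∀ (k : 𝒰.I₀) (i : J k), ∃ W : Over S, Nonempty ((Xi k i).obj ≅ (yon S).obj W) := by
    intro k i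
    obtain ⟨U, a, hU, hae, has, -⟩ := hchart k i
    let jj := j k i ≫ pullback.fst f ((yon S).map (e k))
    have hjj : RepWith @IsOpenImmersion jj :=
      repWith_comp ((hj k).1 i) (repWith_baseChange (IsPullback.of_hasPullback f ((yon S).map (e k))).flip (he k))
    have hjje : RepWith @Etale jj := repWith_mono (P := @IsOpenImmersion) (Q := @Etale)
      (fun _ _ r hr => have : IsOpenImmersion r := hr; inferInstance) hjj
    have hje : RepWith @Etale (j k i) := repWith_mono (P := @IsOpenImmersion) (Q := @Etale)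
      (fun _ _ r hr => have : IsOpenImmersion r := hr; inferInstance) ((hj k).1 i)
    have : IsAffine (T' k).left := inferInstanceAs (IsAffine (𝒰.X k))
    have : Mono (j k i) := mono_of_repWith_immersion (repWith_mono (P := @IsOpenImmersion) (Q := @IsImmersion)
      (fun _ _ g hg => have : IsOpenImmersion g := hg; inferInstance) ((hj k).1 i))
    have sqk := IsPullback.of_hasPullback f ((yon S).map (e k))
    refine exists_iso_yon_of_qc (Xi k i).property (j k i ≫ pullback.snd f ((yon S).map (e k))) ?_ ?_ ?_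
    · intro U' V' a' b' h' ha' hb' comm
      refine hqf (a' ≫ jj) (b' ≫ (yon S).map (e k)) h' (repWith_comp ha' hjje)
        (repWith_comp hb' ((repWith_yon_iff _).2 (inferInstanceAs (Etale (𝒰.f k))))) ?_
      simp only [jj, Category.assoc, sqk.w]
      rw [← reassoc_of% comm]
    · exact isSeparatedMor_comp (isSeparatedMor_of_mono _) (isSeparatedMor_baseChange sqk hsep)
    · exact isQuasiCompactSp_of_isSurjectiveMor (Xi k i).property a (isSurjectiveMor_of_repWith has)
        (isQuasiCompactSp_yon U)
  choose W hW using key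
  refine exists_iso_yon_of_open_cover hX (ι := Σ k, J k) (fun x => W x.1 x.2)
    (fun x => (hW x.1 x.2).some.inv ≫ j x.1 x.2 ≫ pullback.fst f ((yon S).map (e x.1))) (fun x => ?_) fun p => ?_
  · exact (repWith_iso_comp_iff _ _).2 (repWith_comp ((hj x.1).1 x.2)
      (repWith_baseChange (IsPullback.of_hasPullback f ((yon S).map (e x.1))).flip (he x.1)))
  · obtain ⟨t, ht⟩ := (Points.schemeEquiv T).surjective (Points.map f p)
    obtain ⟨k, t', rfl⟩ : ∃ k t', 𝒰.f k t' = t :=
      ⟨𝒰.idx t, 𝒰.covers t⟩
    obtain ⟨r, hr, -⟩ := exists_point_of_isPullback (IsPullback.of_hasPullback f ((yon S).map (e k))) p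
      (Points.ofScheme (T' k) t') (by
        rw [Points.map_ofPt, Category.id_comp, ofScheme_map]
        exact ht.symm)
    obtain ⟨i, x, hx⟩ := (hj k).2 r
    refine ⟨⟨k, i⟩, Points.map (hW k i).some.hom x, ?_⟩
    rw [← Points.map_comp, Iso.hom_inv_id_assoc, Points.map_comp, hx, hr]

/-- representability of separated locally quasi-finite morphisms -/
theorem representable_of_lqf_separated {X Y : Sp S} (hX : IsAlgSpace X) (hY : IsAlgSpace Y) (f : X ⟶ Y)
    (hqf : LocP (@LocallyQuasiFinite ⊓ @LocallyOfFiniteType) f) (hsep : IsSeparatedMor f)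
    (hP : EtST (@LocallyQuasiFinite ⊓ @LocallyOfFiniteType : MorphismProperty Scheme.{u})) :
    Representable f := by
  intro U ξ
  have sq := IsPullback.of_hasPullback f ξ
  have hP' : IsAlgSpace (pullback f ξ) := isAlgSpace_of_isPullback_space hY hX (IsAlgSpace.yon_obj U) sq
  obtain ⟨W, ⟨φ⟩⟩ := exists_iso_yon_of_lqf_separated hP' (pullback.snd f ξ)
    (locP_baseChange hP hX hY hP' (IsAlgSpace.yon_obj U) sq hqf) (isSeparatedMor_baseChange sq hsep)
  obtain ⟨s, hs⟩ := exists_map_eq (φ.inv ≫ pullback.snd f ξ)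
  refine ⟨W, s, φ.inv ≫ pullback.fst f ξ, ?_⟩
  exact sq.of_iso φ (Iso.refl _) (Iso.refl _) (Iso.refl _) (by simp) (by simp [hs]) (by simp) (by simp)

end Groth.Agent.LqfRep

namespace Groth.Agent.LqfRep

open _root_.AlgSp Groth.Agent.AlgSpLib

variable {S : Scheme.{u}}

/-- representability from an isomorphism with a scheme -/
theorem isRepresentable_of_iso {F : Sp S} {W : Over S} (φ : F ≅ (yon S).obj W) : F.obj.IsRepresentable := by
  let h : ((yon S).obj W).obj.RepresentableBy W :=
    { homEquiv := Equiv.ulift.symm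
      homEquiv_comp := fun f g => rfl }
  exact ⟨W, ⟨h.ofIso ((sheafToPresheaf _ _).mapIso φ).symm⟩⟩

/-- spaces etale over a field are separated over it -/
theorem isSeparatedMor_of_isEtaleMor_field {X : Sp S} (hX : IsAlgSpace X) {k : Type u} [Field k]
    (str : Spec (CommRingCat.of k) ⟶ S) (f : X ⟶ (yon S).obj (Over.mk str)) (hf : IsEtaleMor f) :
    IsSeparatedMor f := by
  have sq := IsPullback.of_hasPullback f f
  have hP : IsAlgSpace (pullback f f) := isAlgSpace_of_isPullback_space (IsAlgSpace.yon_obj _) hX hX sq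
  have hd : IsEtaleMor (pullback.diagonal f) := by
    refine isEtaleMor_of_comp hP hX (g := pullback.fst f f) ?_ ?_
    · rw [pullback.diagonal_fst]
      exact fun U φ hφ => by rw [Category.comp_id]; exact hφ
    · exact (isEtaleMor_iff_locP hX).2 (locP_baseChange etST_etale hX (IsAlgSpace.yon_obj _) hP hX sq.flip
        ((isEtaleMor_iff_locP (IsAlgSpace.yon_obj _)).1 hf))
  have : IsSplitMono (pullback.diagonal f) := ⟨⟨pullback.fst f f, pullback.diagonal_fst f⟩⟩
  have ho := repWith_isOpenImmersion_of_mono hX hP (pullback.diagonal f) hd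
  show RepWith @IsClosedImmersion _
  refine (repWith_isClosedImmersion_iff hP (repWith_mono (P := @IsOpenImmersion) (Q := @IsImmersion)
    (fun _ _ r hr => have : IsOpenImmersion r := hr; inferInstance) ho)).2 ?_
  -- the points of `X ×_k X` form a discrete space
  obtain ⟨U, p, he, hs⟩ := hP.atlas
  obtain ⟨a, ha⟩ := exists_map_eq (p ≫ pullback.fst f f ≫ f)
  have hfst : IsEtaleMor (pullback.fst f f) :=
    (isEtaleMor_iff_locP hX).2 (locP_baseChange etST_etale hX (IsAlgSpace.yon_obj _) hP hX sq.flip
        ((isEtaleMor_iff_locP (IsAlgSpace.yon_obj _)).1 hf))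
  have hq : RepWith @Etale ((p ≫ pullback.fst f f) ≫ f) := hf _ (hfst p he)
  rw [Category.assoc, ← ha] at hq
  have : Etale a.left := (repWith_yon_iff (P := @Etale) a).1 hq
  have : LocallyQuasiFinite a.left := Groth.Agent.FpqcDescent.locallyQuasiFinite_of_etale a.left
  have hU : DiscreteTopology ↥U.left := by
    rw [← isDiscrete_univ_iff]
    have : Subsingleton ↥(Over.mk str).left := inferInstanceAs (Subsingleton (PrimeSpectrum k))
    have hd := a.left.isDiscrete_preimage (s := Set.univ)
      (isDiscrete_iff_discreteTopology.2 inferInstance)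
    simpa using hd
  rw [← (isQuotientMap_ofPt he hs).isClosed_preimage]
  exact isClosed_discrete _

/-- cancellation for locally quasi-finite morphisms -/
theorem locP_lqf_cancel {F G H : Sp S} (hH : IsAlgSpace H) {f : F ⟶ G} {g : G ⟶ H}
    (hfg : LocP (@LocallyQuasiFinite ⊓ @LocallyOfFiniteType) (f ≫ g)) :
    LocP (@LocallyQuasiFinite ⊓ @LocallyOfFiniteType) f :=
  locP_cancel etST_lqf (Q := ⊤) (fun _ _ _ f g _ h => by
    have : LocallyQuasiFinite (f ≫ g) := h.1
    have : LocallyOfFiniteType (f ≫ g) := h.2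
    exact ⟨LocallyQuasiFinite.of_comp f g, locallyOfFiniteType_of_comp f g⟩) hH hfg fun _ _ _ _ _ _ _ _ => trivial

end Groth.Agent.LqfRep
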