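import Mathlib.RingTheory.Etale.QuasiFinite
import Mathlib.RingTheory.Etale.StandardEtale
import Mathlib.RingTheory.Polynomial.ScaleRoots
import Mathlib.RingTheory.Etale.Basic
import Mathlib.FieldTheory.PrimitiveElement
import Mathlib.FieldTheory.PurelyInseparable.Basic
import Mathlib.RingTheory.QuasiFinite.Basic

/-!
# Etale neighbourhoods with purely inseparable residue field extension
-/

universe u

open TensorProduct Polynomial

namespace Groth.Agent.LqfRep

set_option backward.isDefEq.respectTransparency false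

/-- a monic lift with separable root of a generator of the separable closure -/
theorem exists_standardEtalePair {A : Type u} [CommRing A] (p : Ideal A) [p.IsPrime]
    {L : Type u} [Field L] [Algebra p.ResidueField L] [Algebra A L] [IsScalarTower A p.ResidueField L]
    [Module.Finite p.ResidueField L] :
    ∃ (P : StandardEtalePair A) (β : L), P.HasMap β ∧
      ∀ y : L, ∃ n : ℕ, ∃ c r : P.Ring, ∀ (h : P.HasMap β), P.lift β h c ≠ 0 ∧
        P.lift β h c * y ^ ringExpChar L ^ n = P.lift β h r := by
  classical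
  let k := p.ResidueField
  obtain ⟨α₀, hα₀⟩ := Field.exists_primitive_element k (separableClosure k L)
  let α : L := α₀
  have hα : IsSeparable k α := mem_separableClosure_iff.1 α₀.2
  have hαi : IsIntegral k α := Algebra.IsIntegral.isIntegral α
  let m := minpoly k α
  obtain ⟨⟨d, hd⟩, hm⟩ := IsLocalization.exist_integer_multiples_of_finset (nonZeroDivisors (A ⧸ p))
    (Finset.image m.coeff m.support)
  let δ : k := algebraMap (A ⧸ p) k d
  have hδ : δ ≠ 0 := fun h => nonZeroDivisors.ne_zero hd
    ((map_eq_zero_iff _ (IsFractionRing.injective (A ⧸ p) k)).1 h)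
  have hsurj : ∀ x : A ⧸ p, algebraMap (A ⧸ p) k x ∈ Set.range (algebraMap A k) := fun x => by
    obtain ⟨a, rfl⟩ := Ideal.Quotient.mk_surjective x
    exact ⟨a, IsScalarTower.algebraMap_apply A (A ⧸ p) k a⟩
  have hl : m.scaleRoots δ ∈ lifts (algebraMap A k) := by
    rw [lifts_iff_coeff_lifts]
    intro i
    rw [coeff_scaleRoots]
    by_cases hi : i ∈ m.support
    · rcases lt_or_eq_of_le (le_natDegree_of_mem_supp i hi) with hlt | rfl
      · obtain ⟨e, he⟩ := Nat.exists_eq_succ_of_ne_zero (Nat.sub_ne_zero_of_lt hlt)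
        obtain ⟨z, hz⟩ := hm _ (Finset.mem_image_of_mem _ hi)
        rw [he, pow_succ', ← mul_assoc]
        have : m.coeff i * δ * δ ^ e = algebraMap (A ⧸ p) k (z * d ^ e) := by
          rw [map_mul, map_pow, hz, Algebra.smul_def, mul_comm (m.coeff i)]
        rw [this]
        exact hsurj _
      · exact ⟨1, by simp [m, (minpoly.monic hαi).coeff_natDegree]⟩
    · exact ⟨0, by simp [notMem_support_iff.1 hi]⟩
  obtain ⟨f, hf, -, hfm⟩ := lifts_and_natDegree_eq_and_monic hl ((monic_scaleRoots_iff δ).2 (minpoly.monic hαi))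
  let β : L := algebraMap k L δ * α
  have hroot : aeval β (m.scaleRoots δ) = 0 := scaleRoots_aeval_eq_zero (minpoly.aeval k α)
  have hadj : IntermediateField.adjoin k {β} = IntermediateField.adjoin k {α} := by
    refine le_antisymm (IntermediateField.adjoin_simple_le_iff.2 (mul_mem
      (IntermediateField.algebraMap_mem _ δ) (IntermediateField.mem_adjoin_simple_self k α)))
      (IntermediateField.adjoin_simple_le_iff.2 ?_)
    have := mul_mem (inv_mem (IntermediateField.algebraMap_mem (IntermediateField.adjoin k {β}) δ))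
      (IntermediateField.mem_adjoin_simple_self k β)
    rwa [← mul_assoc, inv_mul_cancel₀ ((_root_.map_ne_zero _).2 hδ), one_mul] at this
  have hβi : IsIntegral k β := Algebra.IsIntegral.isIntegral β
  have hmin : minpoly k β = m.scaleRoots δ := by
    refine (eq_of_monic_of_dvd_of_natDegree_le (minpoly.monic hβi) ((monic_scaleRoots_iff δ).2 (minpoly.monic hαi))
      (minpoly.dvd k β hroot) (le_of_eq ?_)).symm
    rw [natDegree_scaleRoots, ← IntermediateField.adjoin.finrank hαi, ← IntermediateField.adjoin.finrank hβi, hadj]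
  have hβs : IsSeparable k β := by
    refine mem_separableClosure_iff.1 (mul_mem (IntermediateField.algebraMap_mem _ δ) α₀.2)
  let P : StandardEtalePair A := ⟨f, hfm, derivative f, 1, 0, 1, by simp⟩
  have hmap : P.HasMap β := by
    constructor
    · show aeval β f = 0
      rw [← aeval_map_algebraMap k, hf, hroot]
    · show IsUnit (aeval β (derivative f))
      rw [← aeval_map_algebraMap k, ← derivative_map, hf, ← hmin, isUnit_iff_ne_zero]
      exact hβs.aeval_derivative_ne_zero (minpoly.aeval k β)
  refine ⟨P, β, hmap, fun y => ?_⟩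
  let q := ringExpChar L
  have : ExpChar k q := (algebraMap k L).expChar (algebraMap k L).injective q
  have : IsPurelyInseparable (separableClosure k L) L := inferInstance
  have : ExpChar (separableClosure k L) q := expChar_of_injective_ringHom (algebraMap k _).injective q
  obtain ⟨n, ⟨⟨z, hz⟩, hzy : z = y ^ q ^ n⟩⟩ := IsPurelyInseparable.pow_mem (separableClosure k L) q y
  have hzβ : z ∈ IntermediateField.adjoin k {β} := by
    rw [hadj]
    have : (⟨z, hz⟩ : separableClosure k L) ∈ IntermediateField.adjoin k {α₀} := by rw [hα₀]; trivial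
    have h2 := IntermediateField.adjoin_map k {α₀} (separableClosure k L).val
    rw [Set.image_singleton] at h2
    exact h2.le ⟨⟨z, hz⟩, this, rfl⟩
  rw [← IntermediateField.mem_toSubalgebra,
    IntermediateField.adjoin_simple_toSubalgebra_of_isAlgebraic hβi.isAlgebraic,
    Algebra.adjoin_singleton_eq_range_aeval] at hzβ
  obtain ⟨Q, hQ : aeval β Q = z⟩ := hzβ
  obtain ⟨⟨d', hd'⟩, hQd⟩ := IsLocalization.exist_integer_multiples_of_finset (nonZeroDivisors (A ⧸ p))
    (Finset.image Q.coeff Q.support)
  have hl' : C (algebraMap (A ⧸ p) k d') * Q ∈ lifts (algebraMap A k) := by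
    rw [lifts_iff_coeff_lifts]
    intro i
    rw [coeff_C_mul]
    by_cases hi : i ∈ Q.support
    · obtain ⟨w, hw⟩ := hQd _ (Finset.mem_image_of_mem _ hi)
      rw [← Algebra.smul_def, ← hw]
      exact hsurj w
    · exact ⟨0, by simp [notMem_support_iff.1 hi]⟩
  obtain ⟨g, hg⟩ := (mem_lifts _).1 hl'
  obtain ⟨d₀, rfl⟩ := Ideal.Quotient.mk_surjective d'
  refine ⟨n, algebraMap A P.Ring d₀, aeval P.X g, fun h => ?_⟩
  have e : P.lift β h (algebraMap A P.Ring d₀) = algebraMap k L (algebraMap (A ⧸ p) k (Ideal.Quotient.mk p d₀)) := by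
    rw [AlgHom.commutes, IsScalarTower.algebraMap_apply A k L]
    rfl
  rw [e, ← aeval_algHom_apply, P.lift_X, ← aeval_map_algebraMap k, hg, ← hzy, map_mul, aeval_C, hQ]
  exact ⟨(_root_.map_ne_zero _).2 fun h0 => nonZeroDivisors.ne_zero hd'
    ((map_eq_zero_iff _ (IsFractionRing.injective (A ⧸ p) k)).1 h0), rfl⟩

/-- at a quasi-finite point there is an etale neighbourhood over which the point splits off as the only,
purely inseparable, point of a finite clopen piece -/
theorem exists_etale_piece {A B : Type u} [CommRing A] [CommRing B] [Algebra A B] [Algebra.FiniteType A B]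
    (q : Ideal B) [q.IsPrime] [Algebra.QuasiFiniteAt A q] :
    ∃ (A' : Type u) (_ : CommRing A') (_ : Algebra A A') (_ : Algebra.Etale A A') (P : Ideal A')
      (_ : P.IsPrime) (e : A' ⊗[A] B) (_ : IsIdempotentElem e) (P' : Ideal (A' ⊗[A] B)) (_ : P'.IsPrime)
      (_ : P'.LiesOver P),
      P'.comap Algebra.TensorProduct.includeRight.toRingHom = q ∧ e ∉ P' ∧
      Module.Finite A' (Localization.Away e) ∧
      (∀ P'' : Ideal (A' ⊗[A] B), P''.IsPrime → P''.LiesOver P → e ∉ P'' → P'' = P') ∧
      ∀ (K : Type u) [Field K] (a b : A' ⊗[A] B →+* K), a.comp (algebraMap A' (A' ⊗[A] B)) =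
        b.comp (algebraMap A' (A' ⊗[A] B)) → RingHom.ker a = P' → RingHom.ker b = P' → a = b := by
  let p := q.under A
  let L := q.ResidueField
  let _ := Localization.AtPrime.algebraOfLiesOver p q
  obtain ⟨St, β, hβ, hpi⟩ := exists_standardEtalePair p (L := L)
  let ψ : St.Ring →ₐ[A] L := St.lift β hβ
  let P₁ : Ideal St.Ring := RingHom.ker ψ.toRingHom
  let φ : St.Ring ⊗[A] B →ₐ[A] L :=
    Algebra.TensorProduct.lift ψ (IsScalarTower.toAlgHom A B L) fun _ _ => mul_comm _ _
  let q₁ : Ideal (St.Ring ⊗[A] B) := RingHom.ker φ.toRingHom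
  have : P₁.IsPrime := RingHom.ker_isPrime _
  have : q₁.IsPrime := RingHom.ker_isPrime _
  have : q₁.LiesOver P₁ := ⟨by ext x; simp [q₁, P₁, φ, Ideal.under]⟩
  have hq₁ : q = q₁.comap Algebra.TensorProduct.includeRight.toRingHom := by
    ext x
    simp only [q₁, φ, Ideal.mem_comap, RingHom.mem_ker, AlgHom.toRingHom_eq_coe, RingHom.coe_coe,
      Algebra.TensorProduct.includeRight_apply, Algebra.TensorProduct.lift_tmul, map_one, one_mul,
      IsScalarTower.coe_toAlgHom', Ideal.algebraMap_residueField_eq_zero, L]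
  have : Algebra.QuasiFiniteAt St.Ring q₁ := Algebra.QuasiFiniteAt.baseChange q q₁ hq₁
  obtain ⟨A', _, _, _, P, _, _, e, he, P', _, _, hcomap, heP', -, hfin, huniq⟩ :=
    Algebra.exists_etale_isIdempotentElem_forall_liesOver_eq P₁ q₁
  let _ : Algebra A A' := ((algebraMap St.Ring A').comp (algebraMap A St.Ring)).toAlgebra
  have : IsScalarTower A St.Ring A' := .of_algebraMap_eq fun _ => rfl
  have : Algebra.Etale A A' := Algebra.Etale.comp A St.Ring A'
  let ε : A' ⊗[St.Ring] (St.Ring ⊗[A] B) ≃ₐ[A'] A' ⊗[A] B :=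
    Algebra.TensorProduct.cancelBaseChange A St.Ring A' A' B
  let P'₂ : Ideal (A' ⊗[A] B) := P'.comap ε.symm.toAlgHom.toRingHom
  have hP'₂ : P'₂.LiesOver P := ⟨by
    rw [P'.over_def P, Ideal.under, Ideal.under, Ideal.comap_comap]
    congr 1⟩
  refine ⟨A', _, _, ‹_›, P, ‹_›, ε e, he.map ε, P'₂, inferInstance, hP'₂, ?_, ?_, ?_, ?_, ?_⟩
  · rw [hq₁, ← hcomap, Ideal.comap_comap, Ideal.comap_comap]
    congr 1
  · simpa [P'₂] using heP'
  · let ε' : Localization.Away e ≃ₐ[A'] Localization.Away (ε e) :=
      IsLocalization.algEquivOfAlgEquiv (Localization.Away e) (Localization.Away (ε e)) ε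
        (Submonoid.map_powers _ e)
    exact Module.Finite.equiv ε'.toLinearEquiv
  · intro P'' _ _ h
    have : (P''.comap ε.toAlgHom.toRingHom).LiesOver P := ⟨by
      rw [P''.over_def P, Ideal.under, Ideal.under, Ideal.comap_comap]
      congr 1
      exact ε.toAlgHom.comp_algebraMap.symm⟩
    have := huniq (P''.comap ε.toAlgHom.toRingHom) inferInstance inferInstance (by simpa using h)
    ext x
    rw [show x = ε (ε.symm x) from (ε.apply_symm_apply x).symm]
    simp only [P'₂, Ideal.mem_comap, ← this]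
    simp
  · intro K _ a b hab hka hkb
    let j : St.Ring ⊗[A] B →+* A' ⊗[A] B :=
      (Algebra.TensorProduct.map (IsScalarTower.toAlgHom A St.Ring A') (AlgHom.id A B)).toRingHom
    have hj : ∀ x, ε.symm (j x) = (1 : A') ⊗ₜ[St.Ring] x := fun x => by
      induction x using TensorProduct.induction_on with
      | zero => simp
      | tmul r y =>
        apply ε.injective
        rw [AlgEquiv.apply_symm_apply]
        simp [j, ε, Algebra.smul_def]
      | add x y hx hy => simp only [map_add, hx, hy, TensorProduct.tmul_add]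
    have hker : ∀ x, a (j x) = 0 ↔ φ x = 0 := fun x => by
      rw [← RingHom.mem_ker, hka]
      show _ ↔ x ∈ q₁
      rw [← hcomap]
      show ε.symm (j x) ∈ P' ↔ _
      rw [hj]
      rfl
    have hker' : ∀ x, b (j x) = 0 ↔ φ x = 0 := fun x => by
      rw [← hker, ← RingHom.mem_ker, ← RingHom.mem_ker (f := a), hka, hkb]
    have hj' : ∀ r, j (algebraMap St.Ring _ r) = algebraMap A' (A' ⊗[A] B) (algebraMap St.Ring A' r) := fun r => by
      simp [j]
    have hB : ∀ y : B, a (1 ⊗ₜ y) = b (1 ⊗ₜ y) := fun y => by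
      obtain ⟨n, c, r, hcr⟩ := hpi (algebraMap B L y)
      obtain ⟨hc, hcr⟩ := hcr hβ
      let N := ringExpChar L ^ n
      have hz : φ (c ⊗ₜ (y ^ N) - r ⊗ₜ 1) = 0 := by
        simp [φ, ψ, N, hcr]
      have hc' : φ (c ⊗ₜ 1) ≠ 0 := by simpa [φ, ψ] using hc
      have hj1 : j (c ⊗ₜ (y ^ N) - r ⊗ₜ 1) =
          algebraMap A' _ (algebraMap St.Ring A' c) * ((1 : A') ⊗ₜ[A] y) ^ N -
            algebraMap A' _ (algebraMap St.Ring A' r) := by
        simp [j]
      have ea := (hker _).2 hz
      have eb := (hker' _).2 hz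
      rw [hj1, map_sub, sub_eq_zero, map_mul, map_pow] at ea eb
      have hab' : ∀ x, a (algebraMap A' _ x) = b (algebraMap A' _ x) := fun x => congr($hab x)
      have hac : a (algebraMap A' _ (algebraMap St.Ring A' c)) ≠ 0 := by
        rw [← hj', ne_eq, hker]
        simpa [φ, ψ] using hc
      rw [← hab', ← hab', ← ea] at eb
      have hpow := mul_left_cancel₀ hac eb
      let ν : (St.Ring ⊗[A] B) ⧸ q₁ →+* K := Ideal.Quotient.lift q₁ (a.comp j) fun x hx => (hker x).2 hx
      let μ : (St.Ring ⊗[A] B) ⧸ q₁ →+* L := RingHom.kerLift φ.toRingHom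
      have : ExpChar ((St.Ring ⊗[A] B) ⧸ q₁) (ringExpChar L) :=
        μ.expChar (RingHom.kerLift_injective _) _
      have : ExpChar K (ringExpChar L) := expChar_of_injective_ringHom (f := ν) (by
        rw [injective_iff_map_eq_zero]
        intro x hx
        obtain ⟨x, rfl⟩ := Ideal.Quotient.mk_surjective x
        exact Ideal.Quotient.eq_zero_iff_mem.2 ((hker x).1 hx)) _
      exact (iterateFrobenius_inj K (ringExpChar L) n hpow).symm
    refine RingHom.ext fun x => ?_
    induction x using TensorProduct.induction_on with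
    | zero => simp
    | tmul r y =>
      rw [show r ⊗ₜ[A] y = algebraMap A' (A' ⊗[A] B) r * ((1 : A') ⊗ₜ y) by
        simp, map_mul, map_mul, hB]
      exact congr($hab r * b (1 ⊗ₜ y))
    | add x y hx hy => simp only [map_add, hx, hy]

end Groth.Agent.LqfRep
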