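import Groth.Agent.AlgSpLib.Criteria
import Mathlib.AlgebraicGeometry.Pullbacks
import Mathlib.AlgebraicGeometry.Morphisms.QuasiFinite
import Mathlib.AlgebraicGeometry.Morphisms.Finite

/-!
# Algebras as schemes over a base
-/

universe u

open CategoryTheory CategoryTheory.Limits AlgebraicGeometry Opposite TensorProduct

set_option backward.isDefEq.respectTransparency false

namespace Groth.Agent.LqfRep

open _root_.AlgSp Groth.Agent.AlgSpLib

variable {S : Scheme.{u}} {A : CommRingCat.{u}} (str : Spec A ⟶ S)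

/-- the affine base -/
noncomputable abbrev bT : Over S := Over.mk str

/-- the scheme over `S` of an `A`-algebra -/
noncomputable abbrev aT (R : Type u) [CommRing R] [Algebra A R] : Over S :=
  Over.mk (Spec.map (CommRingCat.ofHom (algebraMap A R)) ≫ str)

/-- its structure map -/
noncomputable abbrev aS (R : Type u) [CommRing R] [Algebra A R] : aT str R ⟶ bT str :=
  Over.homMk (Spec.map (CommRingCat.ofHom (algebraMap A R))) rfl

variable {R R' : Type u} [CommRing R] [Algebra A R] [CommRing R'] [Algebra A R']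

/-- functoriality -/
noncomputable def aM (φ : R →ₐ[A] R') : aT str R' ⟶ aT str R :=
  Over.homMk (Spec.map (CommRingCat.ofHom φ.toRingHom)) (by
    show Spec.map _ ≫ Spec.map _ ≫ str = Spec.map _ ≫ str
    rw [← Spec.map_comp_assoc, ← CommRingCat.ofHom_comp]
    congr 3
    exact φ.comp_algebraMap)

@[simp]
lemma aM_left (φ : R →ₐ[A] R') : (aM str φ).left = Spec.map (CommRingCat.ofHom φ.toRingHom) := rfl

@[simp]
lemma aM_aS (φ : R →ₐ[A] R') : aM str φ ≫ aS str R = aS str R' := by
  ext1
  show Spec.map _ ≫ Spec.map _ = Spec.map _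
  rw [← Spec.map_comp, ← CommRingCat.ofHom_comp]
  congr 2
  exact φ.comp_algebraMap

lemma aM_id : aM str (AlgHom.id A R) = 𝟙 (aT str R) := by
  ext1
  show Spec.map (CommRingCat.ofHom (RingHom.id R)) = 𝟙 _
  rw [CommRingCat.ofHom_id, Spec.map_id]

lemma aM_comp {R'' : Type u} [CommRing R''] [Algebra A R''] (φ : R →ₐ[A] R') (ψ : R' →ₐ[A] R'') :
    aM str (ψ.comp φ) = aM str ψ ≫ aM str φ := by
  ext1
  show Spec.map _ = Spec.map _ ≫ Spec.map _
  rw [← Spec.map_comp, ← CommRingCat.ofHom_comp]
  rfl

lemma aM_injective {φ ψ : R →ₐ[A] R'} (h : aM str φ = aM str ψ) : φ = ψ := by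
  have := congrArg (fun m => m.left) h
  exact AlgHom.ext fun x => congr($(Spec.map_injective this) x)

/-- morphisms over the base are algebra maps -/
lemma exists_aM (h : aT str R' ⟶ aT str R) (e : h ≫ aS str R = aS str R') : ∃ φ : R →ₐ[A] R', aM str φ = h := by
  obtain ⟨φ, hφ⟩ := Spec.map_surjective h.left
  have e' : Spec.map φ ≫ Spec.map (CommRingCat.ofHom (algebraMap A R)) =
      Spec.map (CommRingCat.ofHom (algebraMap A R')) := by
    rw [hφ]; exact congrArg (fun m => m.left) e
  rw [← Spec.map_comp] at e'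
  have e'' := Spec.map_injective e'
  exact ⟨⟨φ.hom, fun r => congr($e'' r)⟩, Over.OverMorphism.ext (by simpa using hφ)⟩

/-- an affine scheme over the base comes from an algebra -/
lemma exists_aT_iso (W : Over S) [IsAffine W.left] (h : W ⟶ bT str) :
    ∃ (R : CommRingCat.{u}) (_ : Algebra A R) (e : W ≅ aT str R), e.hom ≫ aS str R = h := by
  let φ : A ⟶ Γ(W.left, ⊤) := Spec.preimage (W.left.isoSpec.inv ≫ h.left)
  let _ : Algebra A Γ(W.left, ⊤) := φ.hom.toAlgebra
  have hφ : Spec.map (CommRingCat.ofHom (algebraMap A Γ(W.left, ⊤))) = W.left.isoSpec.inv ≫ h.left :=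
    Spec.map_preimage _
  refine ⟨Γ(W.left, ⊤), φ.hom.toAlgebra, Over.isoMk W.left.isoSpec ?_, ?_⟩
  · show _ ≫ Spec.map _ ≫ str = _
    rw [hφ, Category.assoc, Iso.hom_inv_id_assoc]
    exact Over.w h
  · ext1
    show W.left.isoSpec.hom ≫ Spec.map _ = h.left
    rw [hφ, Iso.hom_inv_id_assoc]

/-- tensor products are fibre products -/
lemma isPullback_aT (R R' : Type u) [CommRing R] [Algebra A R] [CommRing R'] [Algebra A R'] :
    IsPullback (aM str (Algebra.TensorProduct.includeRight : R →ₐ[A] R' ⊗[A] R))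
      (aM str (IsScalarTower.toAlgHom A R' (R' ⊗[A] R))) (aS str R) (aS str R') := by
  refine IsPullback.of_map_of_faithful (Over.forget S) ?_
  exact isPullback_SpecMap_of_isPushout _ _ _ _ (CommRingCat.isPushout_tensorProduct A R' R).flip

lemma isPullback_yon_aT (R R' : Type u) [CommRing R] [Algebra A R] [CommRing R'] [Algebra A R'] :
    IsPullback ((yon S).map (aM str (Algebra.TensorProduct.includeRight : R →ₐ[A] R' ⊗[A] R)))
      ((yon S).map (aM str (IsScalarTower.toAlgHom A R' (R' ⊗[A] R)))) ((yon S).map (aS str R))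
      ((yon S).map (aS str R')) :=
  isPullback_yon_iff.2 ((isPullback_aT str R R').map (Over.forget S))

lemma etale_aM (φ : R →ₐ[A] R') (h : φ.toRingHom.Etale) : Etale (aM str φ).left :=
  HasRingHomProperty.Spec_iff.2 h

lemma repWith_etale_aS (R : Type u) [CommRing R] [Algebra A R] [h : Algebra.Etale A R] :
    RepWith @Etale ((yon S).map (aS str R)) :=
  (repWith_yon_iff _).2 (HasRingHomProperty.Spec_iff.2 (RingHom.etale_algebraMap.2 h))

/-- two morphisms to the spectrum of a tensor product agree if their components agree -/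
lemma specTensor_hom_ext {W : Scheme.{u}} {R₀ R₁ R₂ : Type u} [CommRing R₀] [CommRing R₁] [CommRing R₂]
    [Algebra R₀ R₁] [Algebra R₀ R₂] {a b : W ⟶ Spec (.of (R₁ ⊗[R₀] R₂))}
    (h₁ : a ≫ Spec.map (CommRingCat.ofHom Algebra.TensorProduct.includeLeftRingHom) =
      b ≫ Spec.map (CommRingCat.ofHom Algebra.TensorProduct.includeLeftRingHom))
    (h₂ : a ≫ Spec.map (CommRingCat.ofHom (Algebra.TensorProduct.includeRight (R := R₀) (A := R₁)).toRingHom) =
      b ≫ Spec.map (CommRingCat.ofHom (Algebra.TensorProduct.includeRight (R := R₀) (A := R₁)).toRingHom)) :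
    a = b :=
  (isPullback_SpecMap_of_isPushout _ _ _ _ (CommRingCat.isPushout_tensorProduct R₀ R₁ R₂)).hom_ext h₁ h₂

/-- a monomorphism which is representable by finite morphisms is a closed immersion -/
lemma repWith_closedImmersion_of_finite_mono {F G : Sp S} (j : F ⟶ G) [Mono j] (h : RepWith @IsFinite j) :
    RepWith @IsClosedImmersion j := by
  refine repWith_of_exists fun U ξ => ?_
  obtain ⟨V, fst, snd, sq, hs⟩ := exists_repWith h ξ
  refine ⟨V, fst, snd, sq, ?_⟩
  have : Mono ((yon S).map snd) :=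
    (inferInstance : (MorphismProperty.monomorphisms (Sp S)).IsStableUnderBaseChange).of_isPullback sq
      (inferInstance : Mono j)
  have : Mono snd := (yon S).mono_of_mono_map this
  exact (IsClosedImmersion.iff_isFinite_and_mono _).2 ⟨hs, mono_left snd⟩

end Groth.Agent.LqfRep
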