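import Mathlib.RingTheory.Flat.Equalizer
import Mathlib.RingTheory.Smooth.IntegralClosure
import Mathlib.RingTheory.Etale.Basic

/-!
# Integral invariant elements after an etale base change
-/

universe u

open TensorProduct

namespace Groth.Agent.LqfRep

set_option backward.isDefEq.respectTransparency false

variable {A B D : Type u} [CommRing A] [CommRing B] [Algebra A B] [CommRing D] [Algebra A D]

/-- the elements integral over `A` and equalized by `t` and `s` -/
abbrev invInt (t s : B →ₐ[A] D) : Subalgebra A (AlgHom.equalizer t s) :=
  integralClosure A (AlgHom.equalizer t s)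

/-- the inclusion of the integral invariants -/
abbrev invIntVal (t s : B →ₐ[A] D) : invInt t s →ₐ[A] B :=
  (AlgHom.equalizer t s).val.comp (invInt t s).val

lemma invIntVal_eq (t s : B →ₐ[A] D) : t.comp (invIntVal t s) = s.comp (invIntVal t s) :=
  AlgHom.ext fun x => (x : AlgHom.equalizer t s).2

variable (A' : Type u) [CommRing A'] [Algebra A A'] [Algebra.Etale A A']

lemma map_invIntVal_injective (t s : B →ₐ[A] D) :
    Function.Injective (Algebra.TensorProduct.map (AlgHom.id A' A') (invIntVal t s)) :=
  Module.Flat.lTensor_preserves_injective_linearMap (M := A') (invIntVal t s).toLinearMap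
    (Subtype.val_injective.comp Subtype.val_injective)

omit [Algebra.Etale A A'] in
lemma map_invIntVal_invariant (t s : B →ₐ[A] D) (y : A' ⊗[A] invInt t s) :
    Algebra.TensorProduct.map (AlgHom.id A' A') t (Algebra.TensorProduct.map (AlgHom.id A' A') (invIntVal t s) y) =
      Algebra.TensorProduct.map (AlgHom.id A' A') s
        (Algebra.TensorProduct.map (AlgHom.id A' A') (invIntVal t s) y) := by
  induction y using TensorProduct.induction_on with
  | zero => simp
  | tmul a b =>
    simp only [Algebra.TensorProduct.map_tmul]
    rw [show t (invIntVal t s b) = s (invIntVal t s b) from DFunLike.congr_fun (invIntVal_eq t s) b]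
  | add a b ha hb => simp only [map_add, ha, hb]

theorem exists_invInt_preimage (t s : B →ₐ[A] D) (x : A' ⊗[A] B)
    (hx : Algebra.TensorProduct.map (AlgHom.id A' A') t x = Algebra.TensorProduct.map (AlgHom.id A' A') s x)
    (hint : IsIntegral A' x) :
    ∃ y, Algebra.TensorProduct.map (AlgHom.id A' A') (invIntVal t s) y = x := by
  obtain ⟨y₁, hy₁⟩ := (AlgHom.tensorEqualizerEquiv A' A' t s).surjective ⟨x, hx⟩
  have e : Algebra.TensorProduct.map (AlgHom.id A' A') (AlgHom.equalizer t s).val y₁ = x := by
    have := congrArg Subtype.val hy₁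
    rwa [AlgHom.tensorEqualizerEquiv_apply, AlgHom.coe_tensorEqualizer] at this
  have hinj : Function.Injective (Algebra.TensorProduct.map (AlgHom.id A' A') (AlgHom.equalizer t s).val) :=
    Module.Flat.lTensor_preserves_injective_linearMap (M := A') (AlgHom.equalizer t s).val.toLinearMap
      Subtype.val_injective
  have hint₁ : IsIntegral A' y₁ := (isIntegral_algHom_iff _ hinj).1 (e ▸ hint)
  obtain ⟨y, hy⟩ := (TensorProduct.toIntegralClosure_bijective_of_smooth (R := A) (S := A')
    (B := AlgHom.equalizer t s)).2 ⟨y₁, hint₁⟩
  refine ⟨y, ?_⟩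
  rw [← e, ← show _ = y₁ from congrArg Subtype.val hy]
  simp only [TensorProduct.toIntegralClosure, AlgHom.coe_codRestrict]
  clear hy
  induction y using TensorProduct.induction_on with
  | zero => simp
  | tmul a b => rfl
  | add a b ha hb => simp only [map_add, ha, hb]

end Groth.Agent.LqfRep
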