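import Groth.Agent.LqfRep.Aff
import Groth.Agent.LqfRep.InvInt
import Groth.Agent.AlgSpLib.Presentation
import Groth.Agent.AlgSpLib.Subspace

/-!
# The map to the integral invariants is an isomorphism over an etale neighbourhood
-/

universe u

open CategoryTheory CategoryTheory.Limits AlgebraicGeometry Opposite TensorProduct

set_option backward.isDefEq.respectTransparency false

namespace Groth.Agent.LqfRep

open _root_.AlgSp Groth.Agent.AlgSpLib

lemma etale_includeRight {A A' B : Type u} [CommRing A] [CommRing A'] [CommRing B] [Algebra A A'] [Algebra A B]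
    [Algebra.Etale A A'] :
    (Algebra.TensorProduct.includeRight (R := A) (A := A') (B := B)).toRingHom.Etale := by
  algebraize [(Algebra.TensorProduct.includeRight (R := A) (A := A') (B := B)).toRingHom]
  exact RingHom.etale_algebraMap.2 (Algebra.Etale.of_equiv (A := B ⊗[A] A')
    { (Algebra.TensorProduct.comm A B A') with
      commutes' := fun b => by
        show Algebra.TensorProduct.comm A B A' (b ⊗ₜ 1) = _
        simp [RingHom.algebraMap_toAlgebra] })

section Idem

variable {R L : Type u} [CommRing R] [CommRing L] [Algebra R L] {ε : R} [IsLocalization.Away ε L]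

lemma away_idem_eq_one (hε : IsIdempotentElem ε) : algebraMap R L ε = 1 :=
  (IsLocalization.Away.algebraMap_isUnit (S := L) ε).mul_eq_left.1 (hε.map _)

lemma away_idem_eq_iff (hε : IsIdempotentElem ε) (x y : R) :
    algebraMap R L x = algebraMap R L y ↔ ε * x = ε * y := by
  constructor
  · intro h
    obtain ⟨⟨_, n, rfl⟩, hn⟩ := (IsLocalization.eq_iff_exists (Submonoid.powers ε) L).1 h
    rcases n with _ | n
    · simp only [pow_zero, one_mul] at hn; rw [hn]
    · simpa [hε.pow_succ_eq] using hn
  · intro h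
    have := congrArg (algebraMap R L) h
    rwa [map_mul, map_mul, away_idem_eq_one hε, one_mul, one_mul] at this

lemma exists_away_algHom {A₀ L' : Type u} [CommRing A₀] [CommRing L'] [Algebra A₀ R] [Algebra A₀ L] [Algebra A₀ L']
    [IsScalarTower A₀ R L] (φ : R →ₐ[A₀] L') (hu : IsUnit (φ ε)) :
    ∃ T : L →ₐ[A₀] L', T.comp (IsScalarTower.toAlgHom A₀ R L) = φ :=
  ⟨IsLocalization.Away.liftAlgHom ε (f := φ) hu, AlgHom.ext fun x => IsLocalization.Away.lift_eq ε hu x⟩

lemma away_idem_surjective (hε : IsIdempotentElem ε) : Function.Surjective (algebraMap R L) := fun x => by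
  obtain ⟨⟨z, ⟨_, n, rfl⟩⟩, hz⟩ := IsLocalization.surj (Submonoid.powers ε) x
  refine ⟨z, ?_⟩
  rw [← hz]
  simp [away_idem_eq_one hε]

end Idem

variable {S : Scheme.{u}} {A : CommRingCat.{u}} (str : Spec A ⟶ S)
variable {X : Sp S} (f : X ⟶ (yon S).obj (bT str))
variable {B : Type u} [CommRing B] [Algebra A B] {π : (yon S).obj (aT str B) ⟶ X}
variable (A' : Type u) [CommRing A'] [Algebra A A']

/-- the chart of the base change -/
noncomputable def bcChart (hπf : π ≫ f = (yon S).map (aS str B)) :
    (yon S).obj (aT str (A' ⊗[A] B)) ⟶ pullback f ((yon S).map (aS str A')) :=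
  pullback.lift ((yon S).map (aM str (Algebra.TensorProduct.includeRight : B →ₐ[A] A' ⊗[A] B)) ≫ π)
    ((yon S).map (aM str (IsScalarTower.toAlgHom A A' (A' ⊗[A] B)))) (by
      rw [Category.assoc, hπf, ← Functor.map_comp, ← Functor.map_comp, aM_aS, aM_aS])

@[reassoc (attr := simp)]
lemma bcChart_fst (hπf : π ≫ f = (yon S).map (aS str B)) : bcChart str f A' hπf ≫ pullback.fst _ _ =
    (yon S).map (aM str (Algebra.TensorProduct.includeRight : B →ₐ[A] A' ⊗[A] B)) ≫ π :=
  pullback.lift_fst _ _ _

@[reassoc (attr := simp)]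
lemma bcChart_snd (hπf : π ≫ f = (yon S).map (aS str B)) : bcChart str f A' hπf ≫ pullback.snd _ _ =
    (yon S).map (aM str (IsScalarTower.toAlgHom A A' (A' ⊗[A] B))) :=
  pullback.lift_snd _ _ _

variable {D : Type u} [CommRing D] [Algebra A D] (t s : B →ₐ[A] D)

/-- the two projections have the same image in the base change -/
lemma map_bcChart (hπf : π ≫ f = (yon S).map (aS str B))
    (sq : (yon S).map (aM str t) ≫ π = (yon S).map (aM str s) ≫ π) :
    (yon S).map (aM str ((Algebra.TensorProduct.map (AlgHom.id A' A') t).restrictScalars A)) ≫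
        bcChart str f A' hπf =
      (yon S).map (aM str ((Algebra.TensorProduct.map (AlgHom.id A' A') s).restrictScalars A)) ≫
        bcChart str f A' hπf := by
  have hR : ∀ r : B →ₐ[A] D, ((Algebra.TensorProduct.map (AlgHom.id A' A') r).restrictScalars A).comp
      (Algebra.TensorProduct.includeRight : B →ₐ[A] A' ⊗[A] B) =
      (Algebra.TensorProduct.includeRight : D →ₐ[A] A' ⊗[A] D).comp r := fun r => AlgHom.ext fun x => by simp
  have hL : ∀ r : B →ₐ[A] D, ((Algebra.TensorProduct.map (AlgHom.id A' A') r).restrictScalars A).comp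
      (IsScalarTower.toAlgHom A A' (A' ⊗[A] B)) = IsScalarTower.toAlgHom A A' (A' ⊗[A] D) :=
    fun r => AlgHom.ext fun x => by simp
  apply pullback.hom_ext
  · simp only [Category.assoc, bcChart_fst]
    rw [← Functor.map_comp_assoc, ← Functor.map_comp_assoc, ← aM_comp, ← aM_comp, hR, hR, aM_comp, aM_comp,
      Functor.map_comp, Functor.map_comp, Category.assoc, Category.assoc, sq]
  · simp only [Category.assoc, bcChart_snd]
    rw [← Functor.map_comp, ← Functor.map_comp, ← aM_comp, ← aM_comp, hL, hL]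

variable {E : Type u} [CommRing E] [Algebra A E] [Algebra A' E] [IsScalarTower A A' E]

/-- the saturation of a clopen piece is cut out by an invariant idempotent -/
theorem exists_saturation (hπf : π ≫ f = (yon S).map (aS str B))
    (sq : (yon S).map (aM str t) ≫ π = (yon S).map (aM str s) ≫ π)
    (j : (yon S).obj (aT str E) ⟶ pullback f ((yon S).map (aS str A')))
    (hjo : RepWith @IsOpenImmersion j) (hjc : RepWith @IsClosedImmersion j) :
    ∃ ε : A' ⊗[A] B, IsIdempotentElem ε ∧
      Algebra.TensorProduct.map (AlgHom.id A' A') t ε = Algebra.TensorProduct.map (AlgHom.id A' A') s ε ∧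
      (∀ u : PrimeSpectrum (A' ⊗[A] B), u ∈ PrimeSpectrum.basicOpen ε ↔
        ∃ z : ↥(aT str E).left, Points.ofPt j z = Points.ofPt (bcChart str f A' hπf) (u : ↥(aT str (A' ⊗[A] B)).left)) ∧
      ∀ (W : Over S) (m : W ⟶ aT str (A' ⊗[A] B)),
        (∀ z, m.left z ∈ (PrimeSpectrum.basicOpen ε : Set (PrimeSpectrum (A' ⊗[A] B)))) →
        ∃ l : W ⟶ aT str E, (yon S).map l ≫ j = (yon S).map m ≫ bcChart str f A' hπf := by
  obtain ⟨W₀, p₀, q₀, sq₀, hq₀⟩ := exists_repWith (repWith_inf_iff.2 ⟨hjo, hjc⟩) (bcChart str f A' hπf)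
  obtain ⟨p₀, rfl⟩ := exists_map_eq p₀
  have : IsOpenImmersion q₀.left := hq₀.1
  have : IsClosedImmersion q₀.left := hq₀.2
  obtain ⟨ε, hε, hrange⟩ := PrimeSpectrum.isClopen_iff.1
    (show IsClopen (Set.range q₀.left : Set (PrimeSpectrum (A' ⊗[A] B))) from
      ⟨q₀.left.isClosedEmbedding.isClosed_range, q₀.left.isOpenEmbedding.isOpen_range⟩)
  have hmem : ∀ u : ↥(aT str (A' ⊗[A] B)).left, u ∈ Set.range q₀.left ↔
      ∃ z, Points.ofPt j z = Points.ofPt (bcChart str f A' hπf) u := fun u => by
    refine ⟨fun ⟨w, hw⟩ => ⟨p₀.left w, (ofPt_eq_iff sq₀ _ _).2 ⟨w, rfl, hw⟩⟩, fun ⟨z, hz⟩ => ?_⟩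
    obtain ⟨w, -, hw⟩ := (ofPt_eq_iff sq₀ _ _).1 hz
    exact ⟨w, hw⟩
  have hmem' : ∀ u : PrimeSpectrum (A' ⊗[A] B), u ∈ PrimeSpectrum.basicOpen ε ↔
      ∃ z : ↥(aT str E).left, Points.ofPt j z = Points.ofPt (bcChart str f A' hπf) (u : ↥(aT str (A' ⊗[A] B)).left) :=
    fun u => (Set.ext_iff.1 hrange u).symm.trans (hmem u)
  refine ⟨ε, hε, ?_, hmem', fun W m hm => ?_⟩
  · refine PrimeSpectrum.basicOpen_injOn_isIdempotentElem (hε.map _) (hε.map _) (TopologicalSpace.Opens.ext ?_)
    ext x
    have key : ∀ r : B →ₐ[A] D, (x ∈ PrimeSpectrum.basicOpen (Algebra.TensorProduct.map (AlgHom.id A' A') r ε)) ↔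
        ∃ z : ↥(aT str E).left, Points.ofPt j z = Points.ofPt (bcChart str f A' hπf)
          ((aM str ((Algebra.TensorProduct.map (AlgHom.id A' A') r).restrictScalars A)).left x) := fun r =>
      hmem' (PrimeSpectrum.comap (Algebra.TensorProduct.map (AlgHom.id A' A') r).toRingHom x)
    show x ∈ PrimeSpectrum.basicOpen _ ↔ x ∈ PrimeSpectrum.basicOpen _
    rw [key, key, ← ofPt_comp, ← ofPt_comp, map_bcChart str f A' t s hπf sq]
  · have hr : Set.range m.left ⊆ Set.range q₀.left := by
      rintro _ ⟨z, rfl⟩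
      exact (Set.ext_iff.1 hrange _).2 (hm z)
    let l : W ⟶ W₀ := Over.homMk (IsOpenImmersion.lift q₀.left m.left hr) (by
      rw [← Over.w q₀, ← Category.assoc, IsOpenImmersion.lift_fac]
      exact Over.w m)
    have hl : l ≫ q₀ = m := Over.OverMorphism.ext (IsOpenImmersion.lift_fac _ _ _)
    exact ⟨l ≫ p₀, by rw [Functor.map_comp, Category.assoc, sq₀.w, ← Functor.map_comp_assoc, hl]⟩

/-- the piece as a subspace of the chart -/
noncomputable abbrev pieceHom (v : B →ₐ[A] E) : A' ⊗[A] B →ₐ[A'] E :=
  Algebra.TensorProduct.lift (Algebra.ofId A' E) v fun _ _ => mul_comm _ _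

lemma map_pieceHom (hπf : π ≫ f = (yon S).map (aS str B)) (v : B →ₐ[A] E)
    (j : (yon S).obj (aT str E) ⟶ pullback f ((yon S).map (aS str A')))
    (hj₁ : j ≫ pullback.fst _ _ = (yon S).map (aM str v) ≫ π)
    (hj₂ : j ≫ pullback.snd _ _ = (yon S).map (aM str (IsScalarTower.toAlgHom A A' E))) :
    (yon S).map (aM str ((pieceHom A' v).restrictScalars A)) ≫ bcChart str f A' hπf = j := by
  apply pullback.hom_ext
  · rw [Category.assoc, bcChart_fst, ← Functor.map_comp_assoc, ← aM_comp, hj₁,
      show ((pieceHom A' v).restrictScalars A).comp (Algebra.TensorProduct.includeRight : B →ₐ[A] A' ⊗[A] B) = v from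
        AlgHom.ext fun x => by simp]
  · rw [Category.assoc, bcChart_snd, ← Functor.map_comp, ← aM_comp, hj₂,
      show ((pieceHom A' v).restrictScalars A).comp (IsScalarTower.toAlgHom A A' (A' ⊗[A] B)) =
        IsScalarTower.toAlgHom A A' E from AlgHom.ext fun x => (pieceHom A' v).commutes x]

/-- functions coming from the piece are invariant -/
lemma algebraMap_map_eq (hπf : π ≫ f = (yon S).map (aS str B))
    (sq : (yon S).map (aM str t) ≫ π = (yon S).map (aM str s) ≫ π)
    (j : (yon S).obj (aT str E) ⟶ pullback f ((yon S).map (aS str A'))) [Mono j]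
    {ε : A' ⊗[A] B} (hε : IsIdempotentElem ε)
    (hεinv : Algebra.TensorProduct.map (AlgHom.id A' A') t ε = Algebra.TensorProduct.map (AlgHom.id A' A') s ε)
    (μ : E →ₐ[A] Localization.Away ε)
    (hμ : (yon S).map (aM str μ) ≫ j =
      (yon S).map (aM str (IsScalarTower.toAlgHom A (A' ⊗[A] B) (Localization.Away ε))) ≫ bcChart str f A' hπf)
    (z : A' ⊗[A] B) {b : E} (hz : algebraMap (A' ⊗[A] B) (Localization.Away ε) z = μ b) :
    algebraMap (A' ⊗[A] D) (Localization.Away (Algebra.TensorProduct.map (AlgHom.id A' A') s ε))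
        (Algebra.TensorProduct.map (AlgHom.id A' A') t z) =
      algebraMap (A' ⊗[A] D) (Localization.Away (Algebra.TensorProduct.map (AlgHom.id A' A') s ε))
        (Algebra.TensorProduct.map (AlgHom.id A' A') s z) := by
  obtain ⟨εD, hεD⟩ : ∃ εD, εD = Algebra.TensorProduct.map (AlgHom.id A' A') s ε := ⟨_, rfl⟩
  rw [← hεD]
  let aD := IsScalarTower.toAlgHom A (A' ⊗[A] D) (Localization.Away εD)
  let φ := fun r : B →ₐ[A] D => aD.comp ((Algebra.TensorProduct.map (AlgHom.id A' A') r).restrictScalars A)
  have hu : ∀ r : B →ₐ[A] D, Algebra.TensorProduct.map (AlgHom.id A' A') r ε = εD → IsUnit (φ r ε) := fun r hr => by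
    show IsUnit (algebraMap (A' ⊗[A] D) (Localization.Away εD) (Algebra.TensorProduct.map (AlgHom.id A' A') r ε))
    rw [hr]
    exact IsLocalization.Away.algebraMap_isUnit εD
  obtain ⟨Tt, hTt⟩ := exists_away_algHom (L := Localization.Away ε) (φ t) (hu t (hεinv.trans hεD.symm))
  obtain ⟨Ts, hTs⟩ := exists_away_algHom (L := Localization.Away ε) (φ s) (hu s hεD.symm)
  have heq : Tt.comp μ = Ts.comp μ := by
    apply aM_injective str
    apply (yon S).map_injective
    rw [← cancel_mono j]
    simp only [aM_comp str μ, Functor.map_comp, Category.assoc, hμ]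
    rw [← Functor.map_comp_assoc, ← Functor.map_comp_assoc, ← aM_comp, ← aM_comp, hTt, hTs]
    simp only [φ, aM_comp, Functor.map_comp, Category.assoc]
    rw [map_bcChart str f A' t s hπf sq]
  have h := DFunLike.congr_fun heq b
  rw [AlgHom.comp_apply, AlgHom.comp_apply, ← hz] at h
  exact ((DFunLike.congr_fun hTt z).symm.trans h).trans (DFunLike.congr_fun hTs z)

variable [Algebra.Etale A A']

/-- the invariants of the saturation are the functions on the piece -/
theorem exists_lam [Module.Finite A' E] (hπf : π ≫ f = (yon S).map (aS str B))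
    (sq : IsPullback ((yon S).map (aM str t)) ((yon S).map (aM str s)) π π)
    (v : B →ₐ[A] E) (j : (yon S).obj (aT str E) ⟶ pullback f ((yon S).map (aS str A'))) [Mono j]
    (hj₁ : j ≫ pullback.fst _ _ = (yon S).map (aM str v) ≫ π)
    (hj₂ : j ≫ pullback.snd _ _ = (yon S).map (aM str (IsScalarTower.toAlgHom A A' E)))
    {ε : A' ⊗[A] B} (hε : IsIdempotentElem ε)
    (hεinv : Algebra.TensorProduct.map (AlgHom.id A' A') t ε = Algebra.TensorProduct.map (AlgHom.id A' A') s ε)
    (hmem : ∀ u : PrimeSpectrum (A' ⊗[A] B), u ∈ PrimeSpectrum.basicOpen ε ↔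
      ∃ z : ↥(aT str E).left, Points.ofPt j z = Points.ofPt (bcChart str f A' hπf) (u : ↥(aT str (A' ⊗[A] B)).left))
    (hlift : ∀ (W : Over S) (m : W ⟶ aT str (A' ⊗[A] B)),
        (∀ z, m.left z ∈ (PrimeSpectrum.basicOpen ε : Set (PrimeSpectrum (A' ⊗[A] B)))) →
        ∃ l : W ⟶ aT str E, (yon S).map l ≫ j = (yon S).map m ≫ bcChart str f A' hπf) :
    ∃ εb : A' ⊗[A] invInt t s, Algebra.TensorProduct.map (AlgHom.id A' A') (invIntVal t s) εb = ε ∧
      ∃ lam : Localization.Away εb ≃ₐ[A] E, ∀ y, lam (algebraMap _ (Localization.Away εb) y) =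
        pieceHom A' v (Algebra.TensorProduct.map (AlgHom.id A' A') (invIntVal t s) y) := by
  have hv'j := map_pieceHom str f A' hπf v j hj₁ hj₂
  let κ : A' ⊗[A] invInt t s →ₐ[A'] A' ⊗[A] B := Algebra.TensorProduct.map (AlgHom.id A' A') (invIntVal t s)
  have hκ : Function.Injective κ := map_invIntVal_injective A' t s
  let L := Localization.Away ε
  let loc := IsScalarTower.toAlgHom A (A' ⊗[A] B) L
  obtain ⟨μ₀, hμ₀⟩ := hlift _ (aM str loc) fun z =>
    (PrimeSpectrum.localization_away_comap_range L ε).le ⟨z, rfl⟩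
  have hμS : μ₀ ≫ aS str E = aS str L := by
    have h2 := congrArg (fun m => m ≫ pullback.snd _ _) hμ₀
    simp only [Category.assoc, hj₂, bcChart_snd, ← Functor.map_comp] at h2
    rw [← aM_aS str (IsScalarTower.toAlgHom A A' E), reassoc_of% ((yon S).map_injective h2), aM_aS, aM_aS]
  obtain ⟨μ, rfl⟩ := exists_aM str μ₀ hμS
  have hμA : ∀ r, μ (algebraMap A' E r) = algebraMap A' L r := fun r => by
    have h2 := congrArg (fun m => m ≫ pullback.snd _ _) hμ₀
    simp only [Category.assoc, hj₂, bcChart_snd, ← Functor.map_comp, ← aM_comp] at h2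
    exact DFunLike.congr_fun (aM_injective str ((yon S).map_injective h2)) r
  have hv'ε : pieceHom A' v ε = 1 := by
    have hu : IsUnit (pieceHom A' v ε) := by
      by_contra hu
      obtain ⟨m, hm, hεm⟩ := exists_max_ideal_of_mem_nonunits hu
      let z : PrimeSpectrum E := ⟨m, hm.isPrime⟩
      have : PrimeSpectrum.comap (pieceHom A' v).toRingHom z ∈ PrimeSpectrum.basicOpen ε := by
        rw [hmem]
        refine ⟨z, ?_⟩
        conv_lhs => rw [← hv'j, ofPt_comp]
        rfl
      exact this hεm
    exact hu.mul_eq_left.1 (hε.map _)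
  have hvu : IsUnit ((pieceHom A' v).toRingHom ε) := by
    show IsUnit (pieceHom A' v ε)
    rw [hv'ε]; exact isUnit_one
  let ν : L →ₐ[A] E :=
    ⟨IsLocalization.Away.lift ε hvu, fun r => by
      rw [IsScalarTower.algebraMap_apply A (A' ⊗[A] B) L]
      exact (IsLocalization.Away.lift_eq _ _ _).trans (((pieceHom A' v).restrictScalars A).commutes r)⟩
  have hνloc : ν.comp loc = (pieceHom A' v).restrictScalars A :=
    AlgHom.ext fun x => IsLocalization.Away.lift_eq ε hvu x
  have hνμ : ν.comp μ = AlgHom.id A E := by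
    apply aM_injective str
    rw [aM_comp, aM_id]
    apply (yon S).map_injective
    rw [← cancel_mono j, Functor.map_comp, Category.assoc, hμ₀, ← Functor.map_comp_assoc, ← aM_comp, hνloc,
      hv'j, CategoryTheory.Functor.map_id, Category.id_comp]
  obtain ⟨εb, hεb⟩ := exists_invInt_preimage A' t s ε hεinv
    ⟨Polynomial.X ^ 2 - Polynomial.X, Polynomial.monic_X_pow_sub
      (Polynomial.degree_X_le.trans_lt (WithBot.coe_lt_coe.2 one_lt_two)), by simp [pow_two, hε.eq]⟩
  change κ εb = ε at hεb
  refine ⟨εb, hεb, ?_⟩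
  let κE : A' ⊗[A] invInt t s →ₐ[A'] E := (pieceHom A' v).comp κ
  have hκE : IsUnit (κE.toRingHom εb) := by
    show IsUnit (pieceHom A' v (κ εb))
    rw [hεb, hv'ε]
    exact isUnit_one
  let lam0 : Localization.Away εb →+* E := IsLocalization.Away.lift εb hκE
  have hlam : ∀ y, lam0 (algebraMap _ (Localization.Away εb) y) = κE y := fun y => IsLocalization.Away.lift_eq εb hκE y
  have hlbij : Function.Bijective lam0 := by
    refine ⟨(injective_iff_map_eq_zero lam0).2 fun x hx => ?_, fun b => ?_⟩
    · obtain ⟨⟨y, m⟩, hy⟩ := IsLocalization.surj (Submonoid.powers εb) x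
      refine (IsLocalization.map_units (Localization.Away εb) m).mul_left_eq_zero.1 (hy.trans ?_)
      rw [IsLocalization.map_eq_zero_iff (Submonoid.powers εb)]
      refine ⟨⟨εb, 1, pow_one _⟩, hκ ?_⟩
      rw [map_zero, map_mul, hεb, ← mul_zero ε]
      have hy0 : pieceHom A' v (κ y) = 0 := by
        have := congrArg lam0 hy
        rwa [map_mul, hx, zero_mul, hlam, eq_comm] at this
      refine (away_idem_eq_iff (L := L) hε _ _).1 ?_
      rw [map_zero]
      -- two maps to the chart agreeing in the space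
      have h1 : (yon S).map (aM str (loc.comp Algebra.TensorProduct.includeRight)) ≫ π =
          (yon S).map (aM str ((μ.comp ((pieceHom A' v).restrictScalars A)).comp
            Algebra.TensorProduct.includeRight)) ≫ π := by
        have h2 : (yon S).map (aM str loc) ≫ bcChart str f A' hπf =
            (yon S).map (aM str (μ.comp ((pieceHom A' v).restrictScalars A))) ≫ bcChart str f A' hπf := by
          rw [aM_comp str ((pieceHom A' v).restrictScalars A), Functor.map_comp, Category.assoc, hv'j, hμ₀]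
        have := congrArg (fun m => m ≫ pullback.fst _ _) h2
        simp only [Category.assoc, bcChart_fst] at this
        simpa only [aM_comp, Functor.map_comp, Category.assoc] using this
      obtain ⟨δ₀, hδ₀⟩ := exists_map_eq (sq.lift _ _ h1)
      have hδt : δ₀ ≫ aM str t = aM str (loc.comp Algebra.TensorProduct.includeRight) :=
        (yon S).map_injective (by rw [Functor.map_comp, hδ₀, sq.lift_fst])
      have hδs : δ₀ ≫ aM str s = aM str ((μ.comp ((pieceHom A' v).restrictScalars A)).comp
          Algebra.TensorProduct.includeRight) :=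
        (yon S).map_injective (by rw [Functor.map_comp, hδ₀, sq.lift_snd])
      obtain ⟨δ, rfl⟩ := exists_aM str δ₀ (by rw [← aM_aS str t, reassoc_of% hδt, aM_aS])
      rw [← aM_comp] at hδt hδs
      replace hδt := aM_injective str hδt
      replace hδs := aM_injective str hδs
      let δ' : A' ⊗[A] D →ₐ[A'] L :=
        Algebra.TensorProduct.lift (Algebra.ofId A' _) δ fun _ _ => mul_comm _ _
      have e₁ : δ'.comp (Algebra.TensorProduct.map (AlgHom.id A' A') t) =
          IsScalarTower.toAlgHom A' (A' ⊗[A] B) L := by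
        refine Algebra.TensorProduct.ext (Subsingleton.elim _ _) (AlgHom.ext fun b => ?_)
        have := DFunLike.congr_fun hδt b
        simpa [δ', loc] using this
      have e₂ : δ'.comp (Algebra.TensorProduct.map (AlgHom.id A' A') s) =
          ({ μ with commutes' := hμA } : E →ₐ[A'] L).comp (pieceHom A' v) := by
        refine Algebra.TensorProduct.ext (Subsingleton.elim _ _) (AlgHom.ext fun b => ?_)
        have := DFunLike.congr_fun hδs b
        simpa [δ'] using this
      have hinv := map_invIntVal_invariant A' t s y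
      refine (DFunLike.congr_fun e₁ (κ y)).symm.trans ?_
      show δ' (Algebra.TensorProduct.map (AlgHom.id A' A') t (κ y)) = 0
      rw [hinv]
      refine (DFunLike.congr_fun e₂ (κ y)).trans ?_
      show μ (pieceHom A' v (κ y)) = 0
      rw [hy0, map_zero]
    · obtain ⟨z, hz⟩ := away_idem_surjective (L := L) hε (μ b)
      have hint : IsIntegral A' (ε * z) := by
        let μ' : E →ₐ[A'] L := ⟨μ.toRingHom, hμA⟩
        obtain ⟨p, hp, hp0⟩ := (Algebra.IsIntegral.isIntegral (R := A') b).map μ'
        refine ⟨Polynomial.X * p, Polynomial.monic_X.mul hp, ?_⟩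
        rw [Polynomial.eval₂_mul, Polynomial.eval₂_X]
        have h0 : ε * Polynomial.eval₂ (algebraMap A' (A' ⊗[A] B)) (ε * z) p = 0 := by
          rw [← mul_zero ε, ← away_idem_eq_iff (L := L) hε, map_zero, Polynomial.hom_eval₂,
            ← IsScalarTower.algebraMap_eq, map_mul, away_idem_eq_one hε, one_mul, hz]
          exact hp0
        rw [mul_right_comm, h0, zero_mul]
      have hinv : Algebra.TensorProduct.map (AlgHom.id A' A') t (ε * z) =
          Algebra.TensorProduct.map (AlgHom.id A' A') s (ε * z) := by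
        rw [map_mul, map_mul, hεinv]
        refine (away_idem_eq_iff (L := Localization.Away (Algebra.TensorProduct.map (AlgHom.id A' A') s ε))
          (hε.map _) _ _).1 ?_
        exact algebraMap_map_eq str f A' t s hπf sq.w j hε hεinv μ hμ₀ z hz
      obtain ⟨y, hy⟩ := exists_invInt_preimage A' t s (ε * z) hinv hint
      refine ⟨algebraMap _ _ y, ?_⟩
      rw [hlam]
      show pieceHom A' v (κ y) = b
      rw [show κ y = ε * z from hy, map_mul, hv'ε, one_mul]
      have h3 := DFunLike.congr_fun hνμ b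
      simp only [AlgHom.comp_apply, ← hz] at h3
      exact (DFunLike.congr_fun hνloc z).symm.trans h3
  exact ⟨AlgEquiv.ofBijective
    { toRingHom := lam0
      commutes' := fun r => by
        show lam0 _ = _
        rw [IsScalarTower.algebraMap_apply A (A' ⊗[A] invInt t s) (Localization.Away εb), hlam,
          IsScalarTower.algebraMap_apply A A' (A' ⊗[A] invInt t s), κE.commutes, ← IsScalarTower.algebraMap_apply] }
    hlbij, hlam⟩

end Groth.Agent.LqfRep
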