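import Groth.Agent.LqfRep.Chart

/-!
# The map to the integral invariants is an isomorphism over an etale neighbourhood, II
-/

universe u

open CategoryTheory CategoryTheory.Limits AlgebraicGeometry Opposite TensorProduct

set_option backward.isDefEq.respectTransparency false

namespace Groth.Agent.LqfRep

open _root_.AlgSp Groth.Agent.AlgSpLib

variable {S : Scheme.{u}} {A : CommRingCat.{u}} (str : Spec A ⟶ S)
variable {X : Sp S} (f : X ⟶ (yon S).obj (bT str))
variable {B : Type u} [CommRing B] [Algebra A B] {π : (yon S).obj (aT str B) ⟶ X}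
variable {D : Type u} [CommRing D] [Algebra A D] (t s : B →ₐ[A] D)
variable (gX : X ⟶ (yon S).obj (aT str (invInt t s)))
variable (A' : Type u) [CommRing A'] [Algebra A A'] [Algebra.Etale A A']
variable {E : Type u} [CommRing E] [Algebra A E] [Algebra A' E] [IsScalarTower A A' E]

/-- lifting to the piece -/
theorem exists_lift_piece (hπe : RepWith @Etale π) (hπs : RepWith @Surjective π)
    (hπf : π ≫ f = (yon S).map (aS str B))
    (hgπ : π ≫ gX = (yon S).map (aM str (invIntVal t s)))
    (hgS : gX ≫ (yon S).map (aS str (invInt t s)) = f)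
    (v : B →ₐ[A] E) (j : (yon S).obj (aT str E) ⟶ pullback f ((yon S).map (aS str A')))
    (hj₁ : j ≫ pullback.fst _ _ = (yon S).map (aM str v) ≫ π)
    (hj₂ : j ≫ pullback.snd _ _ = (yon S).map (aM str (IsScalarTower.toAlgHom A A' E)))
    {ε : A' ⊗[A] B} (εb : A' ⊗[A] invInt t s)
    (hεb : Algebra.TensorProduct.map (AlgHom.id A' A') (invIntVal t s) εb = ε)
    (hlift : ∀ (W : Over S) (m : W ⟶ aT str (A' ⊗[A] B)),
        (∀ z, m.left z ∈ (PrimeSpectrum.basicOpen ε : Set (PrimeSpectrum (A' ⊗[A] B)))) →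
        ∃ l : W ⟶ aT str E, (yon S).map l ≫ j = (yon S).map m ≫ bcChart str f A' hπf)
    (lam : Localization.Away εb ≃ₐ[A] E)
    (hlam : ∀ y, lam (algebraMap _ (Localization.Away εb) y) =
        pieceHom A' v (Algebra.TensorProduct.map (AlgHom.id A' A') (invIntVal t s) y))
    {T : Over S} (a : (yon S).obj T ⟶ X) (b : T ⟶ aT str (Localization.Away εb))
    (hab : a ≫ gX = (yon S).map b ≫ (yon S).map (aM str
      ((IsScalarTower.toAlgHom A (A' ⊗[A] invInt t s) (Localization.Away εb)).comp
        Algebra.TensorProduct.includeRight))) :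
    (yon S).map b ≫ (yon S).map (aM str lam.symm.toAlgHom) ≫ (yon S).map (aM str v) ≫ π = a := by
  let locb := IsScalarTower.toAlgHom A (A' ⊗[A] invInt t s) (Localization.Away εb)
  let iR : invInt t s →ₐ[A] A' ⊗[A] invInt t s := Algebra.TensorProduct.includeRight
  let iL := IsScalarTower.toAlgHom A A' (A' ⊗[A] invInt t s)
  let κ : A' ⊗[A] invInt t s →ₐ[A'] A' ⊗[A] B := Algebra.TensorProduct.map (AlgHom.id A' A') (invIntVal t s)
  have hfa : a ≫ f = (yon S).map (b ≫ aM str (locb.comp iL)) ≫ (yon S).map (aS str A') := by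
    rw [← hgS, ← Category.assoc, hab, ← Functor.map_comp, ← Functor.map_comp, ← Functor.map_comp,
      Category.assoc, Category.assoc, aM_aS, aM_aS]
  let x' := pullback.lift a ((yon S).map (b ≫ aM str (locb.comp iL))) hfa
  obtain ⟨W₂, m, w₂, sqW, hw₂⟩ := exists_repWith (repWith_inf_iff.2 ⟨hπe, hπs⟩) a
  obtain ⟨m, rfl⟩ := exists_map_eq m
  have : Etale w₂.left := hw₂.1
  have : Surjective w₂.left := hw₂.2
  have : Flat w₂.left := inferInstance
  have : LocallyOfFinitePresentation w₂.left := inferInstance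
  have : Sheaf.IsLocallySurjective ((yon S).map w₂) := isLocallySurjective_yon_map w₂
  have : Epi ((yon S).map w₂) := (Sheaf.isLocallySurjective_iff_epi _).1 this
  rw [← cancel_epi ((yon S).map w₂)]
  have e₀ : (m ≫ aS str B) = (w₂ ≫ b ≫ aM str (locb.comp iL)) ≫ aS str A' := (yon S).map_injective (by
    rw [Functor.map_comp, ← hπf, ← Category.assoc, sqW.w, Category.assoc, hfa]
    simp only [Functor.map_comp, Category.assoc])
  obtain ⟨m', hm'R, hm'L⟩ : ∃ m' : W₂ ⟶ aT str (A' ⊗[A] B),
      m' ≫ aM str (Algebra.TensorProduct.includeRight : B →ₐ[A] A' ⊗[A] B) = m ∧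
      m' ≫ aM str (IsScalarTower.toAlgHom A A' (A' ⊗[A] B)) = w₂ ≫ b ≫ aM str (locb.comp iL) :=
    ⟨(isPullback_aT str B A').lift m _ e₀, (isPullback_aT str B A').lift_fst _ _ _,
      (isPullback_aT str B A').lift_snd _ _ _⟩
  have hm'π : (yon S).map m' ≫ bcChart str f A' hπf = (yon S).map w₂ ≫ x' := by
    apply pullback.hom_ext
    · simp only [Category.assoc, bcChart_fst, x', pullback.lift_fst]
      rw [← Functor.map_comp_assoc, hm'R, sqW.w]
    · simp only [Category.assoc, bcChart_snd, x', pullback.lift_snd, ← Functor.map_comp, hm'L]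
  have hκR : (κ.restrictScalars A).comp iR =
      (Algebra.TensorProduct.includeRight : B →ₐ[A] A' ⊗[A] B).comp (invIntVal t s) := AlgHom.ext fun x => by
    simp [κ, iR]
  have hκL : (κ.restrictScalars A).comp iL = IsScalarTower.toAlgHom A A' (A' ⊗[A] B) :=
    AlgHom.ext fun x => κ.commutes x
  have hm'κ : m' ≫ aM str (κ.restrictScalars A) = (w₂ ≫ b) ≫ aM str locb := by
    refine (isPullback_aT str _ A').hom_ext ?_ ?_
    · show (m' ≫ _) ≫ aM str iR = (_ ≫ _) ≫ aM str iR
      rw [Category.assoc, ← aM_comp, hκR, aM_comp, reassoc_of% hm'R]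
      apply (yon S).map_injective
      rw [Functor.map_comp, ← hgπ, ← Category.assoc, sqW.w, Category.assoc, hab]
      simp only [aM_comp, Functor.map_comp, Category.assoc, locb, iR]
    · show (m' ≫ _) ≫ aM str iL = (_ ≫ _) ≫ aM str iL
      rw [Category.assoc, ← aM_comp, hκL, hm'L]
      simp only [aM_comp, Category.assoc]
  obtain ⟨l, hlj⟩ := hlift W₂ m' fun z => by
    have h4 : (aM str (κ.restrictScalars A)).left (m'.left z) ∈ PrimeSpectrum.basicOpen εb := by
      have e4 := congrArg (fun k => k.left z) hm'κ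
      simp only [Over.comp_left, Scheme.Hom.comp_apply] at e4
      rw [e4]
      exact (PrimeSpectrum.localization_away_comap_range (Localization.Away εb) εb).le ⟨_, rfl⟩
    show m'.left z ∈ (PrimeSpectrum.basicOpen ε : Set (PrimeSpectrum (A' ⊗[A] B)))
    rw [← hεb]
    exact h4
  rw [hm'π] at hlj
  have hlamR : lam.toAlgHom.comp (locb.comp iR) = v.comp (invIntVal t s) := AlgHom.ext fun x => by
    show lam (algebraMap (A' ⊗[A] invInt t s) (Localization.Away εb) (iR x)) = _
    rw [hlam]
    simp [iR]
  have hlamL : lam.toAlgHom.comp (locb.comp iL) = IsScalarTower.toAlgHom A A' E := AlgHom.ext fun x => by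
    show lam (algebraMap (A' ⊗[A] invInt t s) (Localization.Away εb) (iL x)) = _
    rw [hlam]
    exact ((pieceHom A' v).comp κ).commutes x
  have hwR : aM str lam.toAlgHom ≫ aM str locb ≫ aM str iR = aM str v ≫ aM str (invIntVal t s) := by
    rw [← aM_comp, ← aM_comp, hlamR, aM_comp]
  have hwL : aM str lam.toAlgHom ≫ aM str locb ≫ aM str iL = aM str (IsScalarTower.toAlgHom A A' E) := by
    rw [← aM_comp, ← aM_comp, hlamL]
  have hl₁ : l ≫ aM str lam.toAlgHom = w₂ ≫ b := by
    have : IsOpenImmersion (aM str locb).left := IsOpenImmersion.of_isLocalization εb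
    have : Mono (aM str locb) := mono_of_left _
    rw [← cancel_mono (aM str locb)]
    refine (isPullback_aT str _ A').hom_ext ?_ ?_
    · show ((l ≫ aM str lam.toAlgHom) ≫ _) ≫ aM str iR = ((w₂ ≫ b) ≫ _) ≫ aM str iR
      simp only [Category.assoc]
      rw [hwR]
      apply (yon S).map_injective
      have := congrArg (fun k => k ≫ pullback.fst _ _ ≫ gX) hlj
      simp only [Category.assoc, reassoc_of% hj₁, hgπ, x', pullback.lift_fst_assoc, hab] at this
      simpa only [Functor.map_comp, Category.assoc, aM_comp, locb, iR] using this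
    · show ((l ≫ aM str lam.toAlgHom) ≫ _) ≫ aM str iL = ((w₂ ≫ b) ≫ _) ≫ aM str iL
      simp only [Category.assoc]
      rw [hwL]
      apply (yon S).map_injective
      have := congrArg (fun k => k ≫ pullback.snd _ _) hlj
      simp only [Category.assoc, hj₂, x', pullback.lift_snd] at this
      simpa only [Functor.map_comp, Category.assoc, aM_comp, locb, iL] using this
  have hfin := congrArg (fun k => k ≫ pullback.fst _ _) hlj
  simp only [Category.assoc, hj₁, x', pullback.lift_fst] at hfin
  rw [← hfin]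
  simp only [← Functor.map_comp_assoc]
  refine congrArg (fun k => (yon S).map k ≫ π) ?_
  rw [← Category.assoc w₂ b, ← hl₁, Category.assoc l, ← Category.assoc (aM str lam.toAlgHom),
    ← aM_comp str lam.symm.toAlgHom lam.toAlgHom,
    show lam.toAlgHom.comp lam.symm.toAlgHom = AlgHom.id A E from AlgHom.ext fun x => lam.apply_symm_apply x,
    aM_id, Category.id_comp]

/-- over an etale neighbourhood the map to the integral invariants is an isomorphism onto the piece -/
theorem exists_isPullback_piece (hπe : RepWith @Etale π) (hπs : RepWith @Surjective π)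
    (hπf : π ≫ f = (yon S).map (aS str B))
    (sq : IsPullback ((yon S).map (aM str t)) ((yon S).map (aM str s)) π π)
    (hgπ : π ≫ gX = (yon S).map (aM str (invIntVal t s)))
    (hgS : gX ≫ (yon S).map (aS str (invInt t s)) = f)
    [Module.Finite A' E] (v : B →ₐ[A] E) (j : (yon S).obj (aT str E) ⟶ pullback f ((yon S).map (aS str A')))
    (hj₁ : j ≫ pullback.fst _ _ = (yon S).map (aM str v) ≫ π)
    (hj₂ : j ≫ pullback.snd _ _ = (yon S).map (aM str (IsScalarTower.toAlgHom A A' E)))
    (hjo : RepWith @IsOpenImmersion j) (hjc : RepWith @IsClosedImmersion j) :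
    ∃ (Z : Over S) (h : Z ⟶ aT str (invInt t s)) (w : Z ≅ aT str E), Etale h.left ∧
      IsPullback ((yon S).map w.hom ≫ (yon S).map (aM str v) ≫ π) (𝟙 _) gX ((yon S).map h) := by
  have : Mono j := mono_of_repWith_immersion (repWith_mono (P := @IsOpenImmersion) (Q := @IsImmersion)
    (fun _ _ r hr => have : IsOpenImmersion r := hr; inferInstance) hjo)
  obtain ⟨ε, hε, hεinv, hmem, hlift⟩ := exists_saturation str f A' t s hπf sq.w j hjo hjc
  obtain ⟨εb, hεb, lam, hlam⟩ := exists_lam str f A' t s hπf sq v j hj₁ hj₂ hε hεinv hmem hlift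
  let locb := IsScalarTower.toAlgHom A (A' ⊗[A] invInt t s) (Localization.Away εb)
  let iR : invInt t s →ₐ[A] A' ⊗[A] invInt t s := Algebra.TensorProduct.includeRight
  let w : aT str (Localization.Away εb) ≅ aT str E :=
    ⟨aM str lam.symm.toAlgHom, aM str lam.toAlgHom,
      by rw [← aM_comp, show (lam.symm.toAlgHom.comp lam.toAlgHom) = AlgHom.id A _ from
        AlgHom.ext fun x => lam.symm_apply_apply x, aM_id],
      by rw [← aM_comp, show (lam.toAlgHom.comp lam.symm.toAlgHom) = AlgHom.id A _ from
        AlgHom.ext fun x => lam.apply_symm_apply x, aM_id]⟩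
  refine ⟨_, aM str (locb.comp iR), w, etale_aM str _ (RingHom.Etale.stableUnderComposition _ _ etale_includeRight
    (RingHom.etale_algebraMap.2 inferInstance)), ?_⟩
  have hlamR : lam.toAlgHom.comp (locb.comp iR) = v.comp (invIntVal t s) := AlgHom.ext fun x => by
    show lam (algebraMap (A' ⊗[A] invInt t s) (Localization.Away εb) (iR x)) = _
    rw [hlam]
    simp [iR]
  have hσ : ((yon S).map w.hom ≫ (yon S).map (aM str v) ≫ π) ≫ gX =
      𝟙 _ ≫ (yon S).map (aM str (locb.comp iR)) := by
    rw [Category.id_comp, Category.assoc, Category.assoc, hgπ, ← Functor.map_comp, ← Functor.map_comp,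
      ← aM_comp, ← aM_comp, ← hlamR, ← AlgHom.comp_assoc]
    congr 2
    exact AlgHom.ext fun x => lam.symm_apply_apply _
  refine isPullback_of_points hσ fun T a b hab => ?_
  refine ⟨b, ⟨?_, Category.comp_id _⟩, fun c hc => by rw [← hc.2, Category.comp_id]⟩
  obtain ⟨b, rfl⟩ := exists_map_eq b
  exact exists_lift_piece str f t s gX A' hπe hπs hπf hgπ hgS v j hj₁ hj₂ εb hεb hlift lam hlam a b hab

end Groth.Agent.LqfRep
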