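import Groth.Agent.LqfRep.Aff
import Groth.Agent.LqfRep.Ring
import Groth.Agent.AlgSpLib.Graph
import Groth.Agent.AlgSpLib.Subspace
import Mathlib.AlgebraicGeometry.Morphisms.FlatMono

/-!
# After an etale base change a point lies in an affine finite open and closed subspace
-/

universe u

open CategoryTheory CategoryTheory.Limits AlgebraicGeometry Opposite TensorProduct

set_option backward.isDefEq.respectTransparency false

namespace Groth.Agent.LqfRep

open _root_.AlgSp Groth.Agent.AlgSpLib

variable {S : Scheme.{u}} {A : CommRingCat.{u}} (str : Spec A ⟶ S)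

theorem exists_finite_open_piece {X : Sp S} (hX : IsAlgSpace X) (f : X ⟶ (yon S).obj (bT str))
    (hsep : IsSeparatedMor f) {B : Type u} [CommRing B] [Algebra A B] [Algebra.FiniteType A B]
    [Algebra.QuasiFinite A B] {π : (yon S).obj (aT str B) ⟶ X} (hπe : RepWith @Etale π)
    (hπf : π ≫ f = (yon S).map (aS str B)) (q : Ideal B) [q.IsPrime] :
    ∃ (A' : Type u) (_ : CommRing A') (_ : Algebra A A') (_ : Algebra.Etale A A')
      (E : Type u) (_ : CommRing E) (_ : Algebra A E) (_ : Algebra A' E) (_ : IsScalarTower A A' E)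
      (_ : Module.Finite A' E) (v : B →ₐ[A] E)
      (j : (yon S).obj (aT str E) ⟶ pullback f ((yon S).map (aS str A'))),
      j ≫ pullback.fst _ _ = (yon S).map (aM str v) ≫ π ∧
      j ≫ pullback.snd _ _ = (yon S).map (aM str (IsScalarTower.toAlgHom A A' E)) ∧
      RepWith @IsOpenImmersion j ∧ RepWith @IsClosedImmersion j ∧
      ∃ Q : Ideal E, Q.IsPrime ∧ Q.comap v.toRingHom = q := by
  have : Algebra.QuasiFiniteAt A q :=
    Algebra.QuasiFinite.of_isLocalization (R := A) (S := B) (T := Localization.AtPrime q) q.primeCompl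
  obtain ⟨A', _, _, _, P, _, e, he, P', _, _, hcomap, heP', _, huniq, hpi⟩ := exists_etale_piece (A := A) q
  let E₀ := Localization.Away e
  let v₀ : B →ₐ[A] E₀ :=
    (IsScalarTower.toAlgHom A (A' ⊗[A] B) E₀).comp Algebra.TensorProduct.includeRight
  have hv₀ : v₀.toRingHom.Etale := by
    refine RingHom.Etale.stableUnderComposition _ _ ?_ (RingHom.etale_algebraMap.2
      (inferInstance : Algebra.Etale (A' ⊗[A] B) E₀))
    algebraize [(Algebra.TensorProduct.includeRight (R := A) (A := A') (B := B)).toRingHom]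
    have : IsScalarTower A B (A' ⊗[A] B) := .of_algebraMap_eq fun x => by
      exact ((Algebra.TensorProduct.includeRight (R := A) (A := A') (B := B)).commutes x).symm
    exact RingHom.etale_algebraMap.2 (Algebra.Etale.of_equiv (A := B ⊗[A] A')
      { (Algebra.TensorProduct.comm A B A') with
        commutes' := fun b => by
          show Algebra.TensorProduct.comm A B A' (b ⊗ₜ 1) = _
          simp [RingHom.algebraMap_toAlgebra] })
  let g := aS str A'
  let X' := pullback f ((yon S).map g)
  have hX' : IsAlgSpace X' :=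
    isAlgSpace_of_isPullback_space (IsAlgSpace.yon_obj _) hX (IsAlgSpace.yon_obj _) (IsPullback.of_hasPullback _ _)
  have hfst : IsEtaleMor (pullback.fst f ((yon S).map g)) :=
    isEtaleMor_of_repWith' (repWith_baseChange (IsPullback.of_hasPullback f ((yon S).map g)).flip
      (repWith_etale_aS str A'))
  have hdiag : RepWith @IsFinite (pullback.diagonal (pullback.snd f ((yon S).map g))) :=
    repWith_mono (P := @IsClosedImmersion) (Q := @IsFinite)
      (fun _ _ r hr => have : IsClosedImmersion r := hr; inferInstance)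
      (isSeparatedMor_baseChange (IsPullback.of_hasPullback f ((yon S).map g)) hsep)
  let c₀ := IsScalarTower.toAlgHom A A' E₀
  let j₀ : (yon S).obj (aT str E₀) ⟶ X' := pullback.lift ((yon S).map (aM str v₀) ≫ π)
    ((yon S).map (aM str c₀)) (by
      rw [Category.assoc, hπf, ← Functor.map_comp, ← Functor.map_comp, aM_aS, aM_aS])
  have hc₀ : IsFinite (aM str c₀).left :=
    (IsFinite.SpecMap_iff _).2 (RingHom.finite_algebraMap.2 (inferInstance : Module.Finite A' E₀))
  have hj₀ : RepWith @IsFinite j₀ :=
    repWith_of_comp j₀ _ _ (pullback.lift_snd _ _ _) ((repWith_yon_iff _).2 hc₀) hdiag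
  have hj₀e : RepWith @Etale j₀ := by
    refine repWith_etale_of_comp hX' hX ?_ hfst
    rw [pullback.lift_fst]
    exact repWith_comp ((repWith_yon_iff _).2 (etale_aM str v₀ hv₀)) hπe
  -- the kernel pair of `j₀` and its diagonal
  obtain ⟨RV, pfst, psnd, sqV, hps⟩ := exists_repWith hj₀ j₀
  obtain ⟨p, rfl⟩ := exists_map_eq pfst
  have : Etale psnd.left := hj₀e.2 j₀ _ psnd sqV
  have : IsFinite psnd.left := hps
  obtain ⟨d, hd⟩ := exists_map_eq (sqV.lift (𝟙 _) (𝟙 _) rfl)
  have hd₁ : d ≫ p = 𝟙 _ := (yon S).map_injective (by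
    rw [Functor.map_comp, hd, sqV.lift_fst, CategoryTheory.Functor.map_id])
  have hd₂ : d ≫ psnd = 𝟙 _ := (yon S).map_injective (by
    rw [Functor.map_comp, hd, sqV.lift_snd, CategoryTheory.Functor.map_id])
  have hd₂' : d.left ≫ psnd.left = 𝟙 _ := congrArg (fun m => m.left) hd₂
  have : IsClosedImmersion d.left := by
    refine MorphismProperty.of_postcomp (W := @IsClosedImmersion) (W' := @IsSeparated) d.left psnd.left
      inferInstance ?_
    rw [hd₂']; infer_instance
  have : Etale d.left := by
    have : Etale (d.left ≫ psnd.left) := by rw [hd₂']; infer_instance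
    exact Etale.of_comp d.left psnd.left
  have : IsOpenImmersion d.left := IsOpenImmersion.of_flat_of_mono d.left
  -- the bad points do not meet the fibre over `P`
  let π₀ := psnd.left ≫ (aM str c₀).left
  have hπ₀ : p.left ≫ (aM str c₀).left = π₀ := by
    show (p ≫ aM str c₀).left = (psnd ≫ aM str c₀).left
    congr 1
    apply (yon S).map_injective
    have := congrArg (fun m => m ≫ pullback.snd f ((yon S).map g)) sqV.w
    simpa only [Category.assoc, j₀, pullback.lift_snd, ← Functor.map_comp] using this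
  have hπ₀c : IsClosed (π₀ '' (Set.range d.left)ᶜ) := by
    have : IsFinite π₀ := inferInstanceAs (IsFinite (psnd.left ≫ (aM str c₀).left))
    exact π₀.isClosedMap _ d.left.isOpenEmbedding.isOpen_range.isClosed_compl
  have hP : (⟨P, ‹_›⟩ : PrimeSpectrum A') ∉ π₀ '' (Set.range d.left)ᶜ := by
    rintro ⟨r, hr, hrP⟩
    refine hr ?_
    let W : Over S := Over.mk (RV.left.fromSpecResidueField r ≫ RV.hom)
    let ρ : W ⟶ RV := Over.homMk (RV.left.fromSpecResidueField r) rfl
    obtain ⟨a, ha⟩ := Spec.map_surjective (ρ ≫ p).left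
    obtain ⟨b, hb⟩ := Spec.map_surjective (ρ ≫ psnd).left
    have hρ : ∀ z, RV.left.fromSpecResidueField r z = r := fun z => RV.left.fromSpecResidueField_apply r z
    let z₀ : PrimeSpectrum (RV.left.residueField r) := ⟨⊥, Ideal.isPrime_bot⟩
    let K := RV.left.residueField r
    have hcomm : a.hom.comp (algebraMap A' E₀) = b.hom.comp (algebraMap A' E₀) := by
      have h1 : Spec.map a ≫ (aM str c₀).left = Spec.map b ≫ (aM str c₀).left := by
        rw [ha, hb, Over.comp_left, Over.comp_left, Category.assoc, Category.assoc, hπ₀]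
      rw [aM_left, ← Spec.map_comp, ← Spec.map_comp] at h1
      exact congrArg CommRingCat.Hom.hom (Spec.map_injective h1)
    have hker : ∀ (a' : CommRingCat.of E₀ ⟶ RV.left.residueField r) (m : RV ⟶ aT str E₀),
        Spec.map a' = (ρ ≫ m).left → m.left ≫ (aM str c₀).left = π₀ →
        RingHom.ker (a'.hom.comp (algebraMap (A' ⊗[A] B) E₀)) = P' := by
      intro a' m ha' hm
      have hpt : (Spec.map a') z₀ = m.left r := by
        rw [ha', Over.comp_left]
        exact congrArg m.left (hρ z₀)
      have hover : (Spec.map (CommRingCat.ofHom (algebraMap A' E₀))) ((Spec.map a') z₀) = ⟨P, ‹_›⟩ := by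
        rw [hpt, ← hrP, ← hm]
        rfl
      let K' := RingHom.ker (a'.hom.comp (algebraMap (A' ⊗[A] B) E₀))
      have : K'.LiesOver P := ⟨by
        have h2 := congrArg PrimeSpectrum.asIdeal hover
        refine h2.symm.trans ?_
        ext x
        simp [K', z₀, Spec.map_apply, IsScalarTower.algebraMap_apply A' (A' ⊗[A] B) E₀]⟩
      refine huniq K' (RingHom.ker_isPrime _) this fun h => ?_
      have := (IsLocalization.Away.algebraMap_isUnit (S := E₀) e).map a'.hom
      exact this.ne_zero h
    have hab : a.hom.comp (algebraMap (A' ⊗[A] B) E₀) = b.hom.comp (algebraMap (A' ⊗[A] B) E₀) := by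
      refine hpi K _ _ ?_ (hker a p ha hπ₀) (hker b psnd hb rfl)
      rw [RingHom.comp_assoc, RingHom.comp_assoc, ← IsScalarTower.algebraMap_eq]
      exact hcomm
    have hab' : a = b := CommRingCat.hom_ext (IsLocalization.ringHom_ext (Submonoid.powers e) hab)
    have e₁ : ρ ≫ p = ρ ≫ psnd := Over.OverMorphism.ext (by rw [← ha, ← hb, hab'])
    have e₂ : ρ = (ρ ≫ psnd) ≫ d := (yon S).map_injective (sqV.hom_ext
      (by rw [← Functor.map_comp, ← Functor.map_comp, e₁]; simp [hd₁])
      (by rw [← Functor.map_comp, ← Functor.map_comp]; simp [hd₂]))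
    refine ⟨(ρ ≫ psnd).left z₀, ?_⟩
    have := congrArg (fun m => m.left z₀) e₂
    simp only [Over.comp_left, Scheme.Hom.comp_apply] at this ⊢
    rw [← this]
    exact hρ z₀
  obtain ⟨_, ⟨f', rfl⟩, hfP, hfsub⟩ :=
    PrimeSpectrum.isTopologicalBasis_basic_opens.exists_subset_of_mem_open hP hπ₀c.isOpen_compl
  let A'' := Localization.Away f'
  have : Algebra.Etale A A'' := Algebra.Etale.comp A A' A''
  let E := A'' ⊗[A'] E₀
  let iR : E₀ →ₐ[A] E := (Algebra.TensorProduct.includeRight (R := A') (A := A'') (B := E₀)).restrictScalars A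
  let v : B →ₐ[A] E := iR.comp v₀
  have hv : v.toRingHom.Etale := by
    refine RingHom.Etale.stableUnderComposition _ _ hv₀ ?_
    algebraize [iR.toRingHom]
    exact RingHom.etale_algebraMap.2 (Algebra.Etale.of_equiv (A := E₀ ⊗[A'] A'')
      { (Algebra.TensorProduct.comm A' E₀ A'') with
        commutes' := fun b => by
          show Algebra.TensorProduct.comm A' E₀ A'' (b ⊗ₜ 1) = _
          simp [RingHom.algebraMap_toAlgebra, iR]
          rfl })
  let g'' := aS str A''
  let X'' := pullback f ((yon S).map g'')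
  have hX'' : IsAlgSpace X'' :=
    isAlgSpace_of_isPullback_space (IsAlgSpace.yon_obj _) hX (IsAlgSpace.yon_obj _) (IsPullback.of_hasPullback _ _)
  have hfst'' : IsEtaleMor (pullback.fst f ((yon S).map g'')) :=
    isEtaleMor_of_repWith' (repWith_baseChange (IsPullback.of_hasPullback f ((yon S).map g'')).flip
      (repWith_etale_aS str A''))
  let c := IsScalarTower.toAlgHom A A'' E
  let j : (yon S).obj (aT str E) ⟶ X'' := pullback.lift ((yon S).map (aM str v) ≫ π) ((yon S).map (aM str c)) (by
    rw [Category.assoc, hπf, ← Functor.map_comp, ← Functor.map_comp, aM_aS, aM_aS])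
  have hjf : RepWith @IsFinite j := by
    refine repWith_of_comp j _ _ (pullback.lift_snd _ _ _) ((repWith_yon_iff _).2
      ((IsFinite.SpecMap_iff _).2 (RingHom.finite_algebraMap.2 (inferInstance : Module.Finite A'' E)))) ?_
    exact repWith_mono (P := @IsClosedImmersion) (Q := @IsFinite)
      (fun _ _ r hr => have : IsClosedImmersion r := hr; inferInstance)
      (isSeparatedMor_baseChange (IsPullback.of_hasPullback f ((yon S).map g'')) hsep)
  have hje : RepWith @Etale j := by
    refine repWith_etale_of_comp hX'' hX ?_ hfst''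
    rw [pullback.lift_fst]
    exact repWith_comp ((repWith_yon_iff _).2 (etale_aM str v hv)) hπe
  have : Mono j := mono_of_points j fun W a b hab => by
    obtain ⟨a, rfl⟩ := exists_map_eq a
    obtain ⟨b, rfl⟩ := exists_map_eq b
    congr 1
    have h2 : a ≫ aM str c = b ≫ aM str c := by
      have := congrArg (fun m => m ≫ pullback.snd f ((yon S).map g'')) hab
      simp only [Category.assoc, j, pullback.lift_snd, ← Functor.map_comp] at this
      exact (yon S).map_injective this
    have h1' : (yon S).map (a ≫ aM str iR) ≫ (yon S).map (aM str v₀) ≫ π =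
        (yon S).map (b ≫ aM str iR) ≫ (yon S).map (aM str v₀) ≫ π := by
      have := congrArg (fun m => m ≫ pullback.fst f ((yon S).map g'')) hab
      simp only [Category.assoc, j, pullback.lift_fst, v, aM_comp, Functor.map_comp] at this ⊢
      exact this
    have hcc : aM str iR ≫ aM str c₀ = aM str c ≫ aM str (IsScalarTower.toAlgHom A A' A'') := by
      rw [← aM_comp, ← aM_comp]
      congr 1
      ext x
      exact (Algebra.TensorProduct.includeRight (R := A') (A := A'') (B := E₀)).commutes x
    have h3 : (yon S).map (a ≫ aM str iR) ≫ j₀ = (yon S).map (b ≫ aM str iR) ≫ j₀ := by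
      apply pullback.hom_ext
      · simpa only [Category.assoc, j₀, pullback.lift_fst] using h1'
      · simp only [Category.assoc, j₀, pullback.lift_snd, ← Functor.map_comp, hcc]
        rw [reassoc_of% h2]
    obtain ⟨l, hl⟩ := exists_map_eq (sqV.lift _ _ h3)
    have hl₁ : l ≫ p = a ≫ aM str iR := (yon S).map_injective (by
      rw [Functor.map_comp, hl, sqV.lift_fst])
    have hl₂ : l ≫ psnd = b ≫ aM str iR := (yon S).map_injective (by
      rw [Functor.map_comp, hl, sqV.lift_snd])
    have hrange : Set.range l.left ⊆ Set.range d.left := by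
      rintro _ ⟨w, rfl⟩
      by_contra hw
      refine hfsub ?_ ⟨_, hw, rfl⟩
      have e0 : π₀ (l.left w) = (aM str (IsScalarTower.toAlgHom A A' A'')).left ((b ≫ aM str c).left w) := by
        have e1 : (l ≫ psnd) ≫ aM str c₀ = (b ≫ aM str c) ≫ aM str (IsScalarTower.toAlgHom A A' A'') := by
          rw [hl₂, Category.assoc, hcc, Category.assoc]
        exact congrArg (fun m => m.left w) e1
      rw [e0]
      exact (PrimeSpectrum.localization_away_comap_range A'' f').le ⟨_, rfl⟩
    let l' := IsOpenImmersion.lift d.left l.left hrange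
    have hl' : l' ≫ d.left = l.left := IsOpenImmersion.lift_fac _ _ hrange
    have hab0 : (a ≫ aM str iR).left = (b ≫ aM str iR).left := by
      rw [← hl₁, ← hl₂, Over.comp_left, Over.comp_left, ← hl', Category.assoc, Category.assoc, hd₂',
        show d.left ≫ p.left = 𝟙 _ from congrArg (fun m => m.left) hd₁]
    refine Over.OverMorphism.ext (specTensor_hom_ext ?_ ?_)
    · exact congrArg (fun m => m.left) h2
    · exact hab0
  refine ⟨A'', _, _, ‹_›, E, _, _, _, inferInstance, inferInstance, v, j, pullback.lift_fst _ _ _,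
    pullback.lift_snd _ _ _, repWith_isOpenImmersion_of_mono (IsAlgSpace.yon_obj _) hX'' j (isEtaleMor_of_repWith' hje),
    repWith_closedImmersion_of_finite_mono j hjf, ?_⟩
  -- a prime over `q`
  let K := P'.ResidueField
  let φ₀ : E₀ →+* K := IsLocalization.Away.lift e (g := algebraMap (A' ⊗[A] B) K)
    (isUnit_iff_ne_zero.2 fun h => heP' (Ideal.algebraMap_residueField_eq_zero.1 h))
  have hφ₀ : ∀ x, φ₀ (algebraMap _ E₀ x) = algebraMap (A' ⊗[A] B) K x := fun x => IsLocalization.Away.lift_eq _ _ x
  have hφA : ∀ r, φ₀ (algebraMap A' E₀ r) = algebraMap A' K r := fun r => by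
    rw [IsScalarTower.algebraMap_apply A' (A' ⊗[A] B) E₀, hφ₀, ← IsScalarTower.algebraMap_apply]
  have hfK : IsUnit (algebraMap A' K f') := by
    refine isUnit_iff_ne_zero.2 fun h => hfP ?_
    rw [IsScalarTower.algebraMap_apply A' (A' ⊗[A] B) K, Ideal.algebraMap_residueField_eq_zero] at h
    show f' ∈ P
    rw [P'.over_def P]
    exact h
  let α : A'' →ₐ[A'] K := ⟨IsLocalization.Away.lift f' hfK, fun r => IsLocalization.Away.lift_eq _ _ r⟩
  let β : E₀ →ₐ[A'] K := ⟨φ₀, hφA⟩
  let ψ : E →ₐ[A'] K := Algebra.TensorProduct.lift α β fun _ _ => mul_comm _ _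
  refine ⟨RingHom.ker ψ.toRingHom, RingHom.ker_isPrime _, ?_⟩
  rw [← hcomap]
  ext x
  have h1 : ψ ((Algebra.TensorProduct.includeRight (R := A') (A := A'') (B := E₀))
      (algebraMap (A' ⊗[A] B) E₀ (1 ⊗ₜ x))) = algebraMap (A' ⊗[A] B) K (1 ⊗ₜ x) := by
    rw [Algebra.TensorProduct.includeRight_apply, Algebra.TensorProduct.lift_tmul, map_one, one_mul]
    exact hφ₀ _
  show ψ ((Algebra.TensorProduct.includeRight (R := A') (A := A'') (B := E₀))
    (algebraMap (A' ⊗[A] B) E₀ (1 ⊗ₜ x))) = 0 ↔ (1 : A') ⊗ₜ[A] x ∈ P'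
  rw [h1, Ideal.algebraMap_residueField_eq_zero]

end Groth.Agent.LqfRep
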