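import Groth.Agent.LqfRep.Piece
import Groth.Agent.LqfRep.ChartIso
import Groth.Agent.AlgSpLib.DiagCrit

/-!
# Quasi-compact separated locally quasi-finite spaces over an affine scheme are schemes
-/

universe u

open CategoryTheory CategoryTheory.Limits AlgebraicGeometry Opposite TensorProduct

set_option backward.isDefEq.respectTransparency false

namespace Groth.Agent.LqfRep

open _root_.AlgSp Groth.Agent.AlgSpLib

variable {S : Scheme.{u}} {A : CommRingCat.{u}} (str : Spec A ⟶ S)

/-- with a separated structure map the kernel pair of an affine chart is affine -/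
theorem exists_affine_kernelPair {X : Sp S} (hX : IsAlgSpace X) (f : X ⟶ (yon S).obj (bT str))
    (hsep : IsSeparatedMor f) {B : Type u} [CommRing B] [Algebra A B]
    {π : (yon S).obj (aT str B) ⟶ X} (hπf : π ≫ f = (yon S).map (aS str B)) :
    ∃ (D : CommRingCat.{u}) (_ : Algebra A D) (t s : B →ₐ[A] D),
      IsPullback ((yon S).map (aM str t)) ((yon S).map (aM str s)) π π := by
  obtain ⟨R, p, q, sq⟩ := exists_pullback hX.diag π π
  let i1 := aM str (IsScalarTower.toAlgHom A B (B ⊗[A] B))
  let i2 := aM str (Algebra.TensorProduct.includeRight : B →ₐ[A] B ⊗[A] B)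
  have epq : q ≫ aS str B = p ≫ aS str B := (yon S).map_injective (by
    rw [Functor.map_comp, Functor.map_comp, ← hπf, ← Category.assoc, ← sq.w, Category.assoc])
  let r : R ⟶ aT str (B ⊗[A] B) := (isPullback_aT str B B).lift q p epq
  have hr1 : r ≫ i1 = p := (isPullback_aT str B B).lift_snd _ _ _
  have hr2 : r ≫ i2 = q := (isPullback_aT str B B).lift_fst _ _ _
  let m : (yon S).obj (aT str (B ⊗[A] B)) ⟶ pullback f f :=
    pullback.lift ((yon S).map i1 ≫ π) ((yon S).map i2 ≫ π) (by
      rw [Category.assoc, Category.assoc, hπf, ← Functor.map_comp, ← Functor.map_comp, aM_aS, aM_aS])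
  have hw : ((yon S).map p ≫ π) ≫ pullback.diagonal f = (yon S).map r ≫ m := by
    apply pullback.hom_ext
    · simp only [Category.assoc, pullback.diagonal_fst, Category.comp_id, m, pullback.lift_fst]
      rw [← Functor.map_comp_assoc, hr1]
    · simp only [Category.assoc, pullback.diagonal_snd, Category.comp_id, m, pullback.lift_snd]
      rw [← Functor.map_comp_assoc, hr2, sq.w]
  have sqd : IsPullback ((yon S).map p ≫ π) ((yon S).map r) (pullback.diagonal f) m := by
    refine isPullback_of_points hw fun T a b e => ?_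
    have ea : a = b ≫ (yon S).map i1 ≫ π := by
      simpa [m] using congrArg (fun k => k ≫ pullback.fst f f) e
    have eb : a = b ≫ (yon S).map i2 ≫ π := by
      simpa [m] using congrArg (fun k => k ≫ pullback.snd f f) e
    obtain ⟨b, rfl⟩ := exists_map_eq b
    have e' : ((yon S).map (b ≫ i1)) ≫ π = ((yon S).map (b ≫ i2)) ≫ π := by
      rw [Functor.map_comp, Functor.map_comp, Category.assoc, Category.assoc, ← ea, ← eb]
    obtain ⟨c, hc⟩ := exists_map_eq (sq.lift _ _ e')
    have hc1 : c ≫ p = b ≫ i1 := (yon S).map_injective (by rw [Functor.map_comp, hc, sq.lift_fst])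
    have hc2 : c ≫ q = b ≫ i2 := (yon S).map_injective (by rw [Functor.map_comp, hc, sq.lift_snd])
    refine ⟨(yon S).map c, ⟨?_, ?_⟩, fun d hd => ?_⟩
    · rw [ea, ← Category.assoc, ← Functor.map_comp, hc1, Functor.map_comp, Category.assoc]
    · rw [← Functor.map_comp]
      congr 1
      exact (isPullback_aT str B B).hom_ext (by rw [Category.assoc]; exact (hr2 ▸ hc2)) (by
        rw [Category.assoc]; exact (hr1 ▸ hc1))
    · obtain ⟨d, rfl⟩ := exists_map_eq d
      congr 1
      refine (yon S).map_injective (sq.hom_ext ?_ ?_)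
      · rw [← Functor.map_comp, ← Functor.map_comp, hc1, ← hr1]
        have h2 := hd.2
        rw [← Functor.map_comp] at h2
        rw [reassoc_of% ((yon S).map_injective h2)]
      · rw [← Functor.map_comp, ← Functor.map_comp, hc2, ← hr2]
        have h2 := hd.2
        rw [← Functor.map_comp] at h2
        rw [reassoc_of% ((yon S).map_injective h2)]
  have : IsClosedImmersion r.left := (repWith_yon_iff (P := @IsClosedImmersion) r).1 (repWith_baseChange sqd hsep)
  have : IsAffine (aT str (B ⊗[A] B)).left := inferInstanceAs (IsAffine (Spec _))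
  have : IsAffine R.left := isAffine_of_isAffineHom r.left
  obtain ⟨D, _, e, he⟩ := exists_aT_iso str R (p ≫ aS str B)
  obtain ⟨t, ht⟩ := exists_aM str (e.inv ≫ p) (by rw [Category.assoc, ← he, e.inv_hom_id_assoc])
  obtain ⟨s, hs⟩ := exists_aM str (e.inv ≫ q) (by rw [Category.assoc, epq, ← he, e.inv_hom_id_assoc])
  refine ⟨D, _, t, s, ?_⟩
  rw [ht, hs]
  exact sq.of_iso ((yon S).mapIso e) (Iso.refl _) (Iso.refl _) (Iso.refl _) (by simp) (by simp) (by simp) (by simp)

/-- a quasi-compact separated locally quasi-finite space over an affine scheme is representable -/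
theorem exists_iso_yon_of_qc_affine {X : Sp S} (hX : IsAlgSpace X) (f : X ⟶ (yon S).obj (bT str))
    (hqf : LocP (@LocallyQuasiFinite ⊓ @LocallyOfFiniteType) f) (hsep : IsSeparatedMor f)
    (hqc : IsQuasiCompactSp X) : ∃ W : Over S, Nonempty (X ≅ (yon S).obj W) := by
  have := compactSpace_of_isQuasiCompactSp hqc
  obtain ⟨U, π₀, hU, hπ₀e, hπ₀s⟩ := exists_affine_chart_of_compact hX
  obtain ⟨u, hu⟩ := exists_map_eq (π₀ ≫ f)
  obtain ⟨B, _, e, he⟩ := exists_aT_iso str U u
  let π : (yon S).obj (aT str B) ⟶ X := (yon S).map e.inv ≫ π₀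
  have hπe : RepWith @Etale π := (repWith_iso_comp_iff _ _).2 hπ₀e
  have hπs : RepWith @Surjective π := (repWith_iso_comp_iff _ _).2 hπ₀s
  have hπf : π ≫ f = (yon S).map (aS str B) := by
    rw [Category.assoc, ← hu, ← Functor.map_comp, ← he, e.inv_hom_id_assoc]
  obtain ⟨h1, h2⟩ := hqf π (𝟙 _) (aS str B) hπe repWith_id' (by rw [hπf, Category.comp_id])
  have : Algebra.FiniteType A B :=
    RingHom.finiteType_algebraMap.1 (HasRingHomProperty.Spec_iff.1 h2)
  have : Algebra.QuasiFinite A B := RingHom.quasiFinite_algebraMap.1 (HasRingHomProperty.Spec_iff.1 h1)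
  obtain ⟨D, _, t, s, sq⟩ := exists_affine_kernelPair str hX f hsep hπf
  have : Sheaf.IsLocallySurjective π := isLocallySurjective_of_atlas hπe hπs
  have : Epi π := (Sheaf.isLocallySurjective_iff_epi _).1 this
  obtain ⟨hcol⟩ := isColimit_of_isPullback sq
  have hι : (yon S).map (aM str t) ≫ (yon S).map (aM str (invIntVal t s)) =
      (yon S).map (aM str s) ≫ (yon S).map (aM str (invIntVal t s)) := by
    rw [← Functor.map_comp, ← Functor.map_comp, ← aM_comp, ← aM_comp, invIntVal_eq]
  obtain ⟨gX, hgπ⟩ : ∃ gX : X ⟶ (yon S).obj (aT str (invInt t s)), π ≫ gX = (yon S).map (aM str (invIntVal t s)) :=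
    ⟨Cofork.IsColimit.desc hcol _ hι, Cofork.IsColimit.π_desc' hcol _ hι⟩
  have hgS : gX ≫ (yon S).map (aS str (invInt t s)) = f := by
    rw [← cancel_epi π, reassoc_of% hgπ, hπf, ← Functor.map_comp, aM_aS]
  -- etale neighbourhoods
  have key : ∀ x : PrimeSpectrum B, ∃ (Z : Over S) (h : Z ⟶ aT str (invInt t s))
      (σ : (yon S).obj Z ⟶ X) (z : ↥Z.left), Etale h.left ∧ IsPullback σ (𝟙 _) gX ((yon S).map h) ∧
        h.left z = (aM str (invIntVal t s)).left x := by
    intro x
    obtain ⟨A', _, _, _, E, _, _, _, _, _, v, j, hj₁, hj₂, hjo, hjc, Q, hQ, hQx⟩ :=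
      exists_finite_open_piece str hX f hsep hπe hπf x.asIdeal
    obtain ⟨Z, h, w, hh, hpb⟩ := exists_isPullback_piece str f t s gX A' hπe hπs hπf sq hgπ hgS v j hj₁ hj₂ hjo hjc
    refine ⟨Z, h, _, w.inv.left (⟨Q, hQ⟩ : PrimeSpectrum E), hh, hpb, ?_⟩
    have e2 : w.hom ≫ aM str v ≫ aM str (invIntVal t s) = h := (yon S).map_injective (by
      rw [Functor.map_comp, Functor.map_comp, ← hgπ]
      simpa using hpb.w)
    have e3 : w.inv ≫ h = aM str v ≫ aM str (invIntVal t s) := by rw [← e2, w.inv_hom_id_assoc]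
    have e4 := congrArg (fun k => k.left (⟨Q, hQ⟩ : PrimeSpectrum E)) e3
    simp only [Over.comp_left, Scheme.Hom.comp_apply] at e4
    rw [e4]
    congr 1
    exact PrimeSpectrum.ext hQx
  choose Z h σ z hh hpb hz using key
  let Ω : (aT str (invInt t s)).left.Opens := ⟨⋃ x, Set.range (h x).left, isOpen_iUnion fun x => by
    have := hh x
    have : Flat (h x).left := inferInstance
    exact (h x).left.isOpenMap.isOpen_range⟩
  let WΩ : Over S := Over.mk (Ω.ι ≫ (aT str (invInt t s)).hom)
  let inc : WΩ ⟶ aT str (invInt t s) := Over.homMk Ω.ι rfl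
  have : IsOpenImmersion inc.left := inferInstanceAs (IsOpenImmersion Ω.ι)
  have hinc : RepWith @IsOpenImmersion ((yon S).map inc) := (repWith_yon_iff _).2 ‹_›
  obtain ⟨g, hg⟩ := (exists_factor_iff (IsAlgSpace.yon_obj WΩ) (IsAlgSpace.yon_obj _) _ hinc gX).2 (by
    rintro _ ⟨y, rfl⟩
    obtain ⟨x, rfl⟩ := ofPt_surjective hπs y
    have hx : (aM str (invIntVal t s)).left x ∈ Ω := Set.mem_iUnion.2 ⟨x, z x, hz x⟩
    refine ⟨Points.ofScheme WΩ ⟨_, hx⟩, ?_⟩
    rw [Points.map_ofPt, Category.id_comp, ofScheme_map, Points.map_ofPt, hgπ, ofScheme_map]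
    rfl)
  have hfac : ∀ x, Set.range (h x).left ⊆ Set.range inc.left := fun x => by
    rintro _ ⟨y, rfl⟩
    exact ⟨⟨_, Set.mem_iUnion.2 ⟨x, y, rfl⟩⟩, rfl⟩
  let h' : ∀ x, Z x ⟶ WΩ := fun x => Over.homMk (IsOpenImmersion.lift inc.left (h x).left (hfac x)) (by
    rw [← Over.w inc, ← Category.assoc, IsOpenImmersion.lift_fac]
    exact Over.w (h x))
  have hh' : ∀ x, h' x ≫ inc = h x := fun x => Over.OverMorphism.ext (IsOpenImmersion.lift_fac _ _ _)
  have : Mono inc := mono_of_left _
  have hsq : ∀ x, σ x ≫ gX = 𝟙 _ ≫ (yon S).map (h x) := fun x => (hpb x).w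
  have sq' : ∀ x, IsPullback (σ x) (𝟙 _) g ((yon S).map (h' x)) := fun x => by
    refine isPullback_of_points ?_ fun T a b e => ?_
    · rw [← cancel_mono ((yon S).map inc), Category.assoc, hg, Category.assoc, ← Functor.map_comp, hh']
      exact hsq x
    · have e' : a ≫ gX = b ≫ (yon S).map (h x) := by
        rw [← hg, ← Category.assoc, e, Category.assoc, ← Functor.map_comp, hh']
      refine ⟨(hpb x).lift a b e', ⟨(hpb x).lift_fst _ _ _, (hpb x).lift_snd _ _ _⟩, fun d hd => ?_⟩
      exact (hpb x).hom_ext (hd.1.trans ((hpb x).lift_fst _ _ _).symm) (hd.2.trans ((hpb x).lift_snd _ _ _).symm)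
  have hh'e : ∀ x, Etale (h' x).left := fun x => by
    have := hh x
    have : Etale ((h' x).left ≫ inc.left) := by rw [← Over.comp_left, hh']; infer_instance
    exact Etale.of_comp _ inc.left
  have he' : ∀ x, RepWith @Etale ((yon S).map (h' x)) := fun x => (repWith_yon_iff _).2 (hh'e x)
  have hcov : IsFpqcCover (fun x => (yon S).obj (Z x)) (fun x => (yon S).map (h' x)) := by
    refine isFpqcCover_of_fppf (IsAlgSpace.yon_obj _) (fun _ => IsAlgSpace.yon_obj _) ⟨fun x =>
      ⟨(locP_iff_repWith etST_flat (IsAlgSpace.yon_obj _) (he' x).1).2 (repWith_mono (fun _ _ r hr => by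
          have : Etale r := hr
          infer_instance) (he' x)),
        (locP_iff_repWith etST_lfp (IsAlgSpace.yon_obj _) (he' x).1).2 (repWith_mono (fun _ _ r hr => by
          have : Etale r := hr
          infer_instance) (he' x))⟩, fun p => ?_⟩
    obtain ⟨⟨y, hy⟩, rfl⟩ := (Points.schemeEquiv WΩ).surjective p
    obtain ⟨x, y', hy'⟩ := Set.mem_iUnion.1 hy
    refine ⟨x, Points.ofScheme (Z x) y', ?_⟩
    show Points.map _ (Points.ofScheme _ _) = Points.ofScheme _ _
    rw [Points.map_ofPt, Category.id_comp, ofScheme_map]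
    congr 1
    apply inc.left.isOpenEmbedding.injective
    rw [← Scheme.Hom.comp_apply, ← Over.comp_left, hh', hy']
    rfl
  have hiso : IsIso g := (isLocalOnBase_isomorphisms _ _ (IsAlgSpace.yon_obj _) (fun _ => IsAlgSpace.yon_obj _)
    hcov g hX _ (fun x => 𝟙 ((yon S).obj (Z x))) σ (fun _ => IsAlgSpace.yon_obj _) sq').2
      fun x => (inferInstance : IsIso (𝟙 _))
  exact ⟨WΩ, ⟨asIso g⟩⟩

/-- a quasi-compact separated locally quasi-finite space over an affine scheme is representable -/
theorem exists_iso_yon_of_qc {X : Sp S} (hX : IsAlgSpace X) {T : Over S} [IsAffine T.left]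
    (f : X ⟶ (yon S).obj T) (hqf : LocP (@LocallyQuasiFinite ⊓ @LocallyOfFiniteType) f) (hsep : IsSeparatedMor f)
    (hqc : IsQuasiCompactSp X) : ∃ W : Over S, Nonempty (X ≅ (yon S).obj W) := by
  let e : T ≅ bT (T.left.isoSpec.inv ≫ T.hom) :=
    Over.isoMk T.left.isoSpec (by simp)
  refine exists_iso_yon_of_qc_affine _ hX (f ≫ (yon S).map e.hom) (fun U V a b k ha hb comm => ?_) ?_ hqc
  · refine hqf a (b ≫ (yon S).map e.inv) k ha
      (repWith_comp hb ((repWith_yon_iff _).2 (inferInstanceAs (Etale e.inv.left)))) ?_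
    rw [← reassoc_of% comm, ← Functor.map_comp, e.hom_inv_id, CategoryTheory.Functor.map_id, Category.comp_id]
  · refine isSeparatedMor_comp hsep ?_
    exact repWith_of_isIso _

end Groth.Agent.LqfRep
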